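import Groth.Agent.H46.AmpDesc.Main
import Groth.Agent.H46.LocSec.Global

/-!
# Relative ampleness descends along universally open surjective morphisms
-/

set_option autoImplicit false

universe u

open CategoryTheory CategoryTheory.Limits AlgebraicGeometry Opposite TopologicalSpace
open Groth.Agent.Lib

namespace Groth.Agent.H46.AmpDesc.BaseChange

variable {X Y Y' : Scheme.{u}}

theorem isRelAmple_of_iso {f : X ⟶ Y} {L M : X.Modules} (e : L ≅ M)
    (h : RelAmple.IsRelAmple f L) : RelAmple.IsRelAmple f M := by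
  obtain ⟨hq, hA⟩ := (Ample.RelAmple.isRelAmple_iff f).1 h
  exact (Ample.RelAmple.isRelAmple_iff f).2 ⟨hq, fun V hV =>
    Ample.Pow.isAmple_of_iso ((Scheme.Modules.pullback _).mapIso e) (hA V hV)⟩

/-- Relative ampleness transfers along pullback squares. -/
theorem isRelAmple_of_isPullback {P W : Scheme.{u}} {f : X ⟶ Y} [QuasiCompact f] {τ : W ⟶ Y} {k : P ⟶ X}
    {p : P ⟶ W} (H : IsPullback k p f τ) {L : X.Modules} (h : RelAmple.IsRelAmple f L) :
    RelAmple.IsRelAmple p ((Scheme.Modules.pullback k).obj L) := by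
  have h1 := Ample.RelAmple.isRelAmple_pullback (pullback.snd f τ) H.isoPullback.hom
    (Ample.Pullback.isQuasiAffine_of_isAffineHom _) (Ample.RelAmple.isRelAmple_baseChange f τ h)
  rw [H.isoPullback_hom_snd] at h1
  exact isRelAmple_of_iso ((Scheme.Modules.pullbackComp _ _).app L ≪≫
    (Scheme.Modules.pullbackCongr H.isoPullback_hom_fst).app L) h1

set_option maxHeartbeats 800000 in
/-- The affine-local step. -/
theorem isAmple_preimage [IsLocallyNoetherian Y] (f : X ⟶ Y) [LocallyOfFiniteType f] (g : Y' ⟶ Y)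
    [LocallyOfFiniteType g] [UniversallyOpen g] [Surjective g] {L : X.Modules}
    (hL : PicF.IsInvertible L) {Z : Set X} (hZ : ClSub.IsProperOver f Z)
    (hnor : ∀ x, x ∉ Z → IsDomain (X.presheaf.stalk x) ∧ IsIntegrallyClosed (X.presheaf.stalk x))
    (h : RelAmple.IsRelAmple (pullback.snd f g) ((Scheme.Modules.pullback (pullback.fst f g)).obj L))
    (V : Y.Opens) (hV : IsAffineOpen V) :
    IsCompact ((f ⁻¹ᵁ V : X.Opens) : Set X) ∧
      CohB1.IsAmple ((Scheme.Modules.pullback (f ⁻¹ᵁ V).ι).obj L) := by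
  have : IsAffine (V : Scheme.{u}) := hV
  have : IsNoetherian (V : Scheme.{u}) := ⟨⟩
  have : LocallyOfFiniteType (g ∣_ V) := IsZariskiLocalAtTarget.restrict (P := @LocallyOfFiniteType) ‹_› V
  have : UniversallyOpen (g ∣_ V) := IsZariskiLocalAtTarget.restrict (P := @UniversallyOpen) ‹_› V
  have : Surjective (g ∣_ V) := IsZariskiLocalAtTarget.restrict (P := @Surjective) ‹_› V
  obtain ⟨Z2, q, hq, hqs, hsec⟩ := LocSec.Global.exists_global (g ∣_ V)
  have : LocallyOfFiniteType (f ∣_ V) := IsZariskiLocalAtTarget.restrict (P := @LocallyOfFiniteType) ‹_› V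
  have : IsAffine Z2 := isAffine_of_isAffineHom q
  have : QuasiCompact (pullback.snd f g) := h.1
  let f2 := pullback.snd (f ∣_ V) q
  let q2 := pullback.fst (f ∣_ V) q
  -- locally on the cover the base change comes from `g`
  have hloc : ∀ z : Z2, ∃ (W : Z2.Opens) (k : (f2 ⁻¹ᵁ W : Scheme.{u}) ⟶ pullback f g)
      (τ : (W : Scheme.{u}) ⟶ Y'), z ∈ W ∧ IsPullback k (f2 ∣_ W) (pullback.snd f g) τ ∧
        k ≫ pullback.fst f g = ((f2 ⁻¹ᵁ W).ι ≫ q2) ≫ (f ⁻¹ᵁ V).ι := by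
    intro z
    obtain ⟨W0, j, hj, hz, t, ht⟩ := hsec z
    let W := j.opensRange
    have h1 : IsPullback (((f2 ⁻¹ᵁ W).ι ≫ q2) ≫ (f ⁻¹ᵁ V).ι) (f2 ∣_ W) f ((W.ι ≫ q) ≫ V.ι) :=
      ((isPullback_morphismRestrict f2 W).flip.paste_horiz (IsPullback.of_hasPullback _ _)).paste_horiz
        (isPullback_morphismRestrict f V).flip
    have he : (W.ι ≫ q) ≫ V.ι = (j.isoOpensRange.inv ≫ t ≫ (g ⁻¹ᵁ V).ι) ≫ g := by
      simp only [Category.assoc]
      rw [← morphismRestrict_ι, reassoc_of% ht, Scheme.Hom.isoOpensRange_inv_comp_assoc]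
    rw [he] at h1
    have h3 := IsPullback.of_hasPullback f g
    refine ⟨W, h3.lift (((f2 ⁻¹ᵁ W).ι ≫ q2) ≫ (f ⁻¹ᵁ V).ι)
      ((f2 ∣_ W) ≫ j.isoOpensRange.inv ≫ t ≫ (g ⁻¹ᵁ V).ι) (h1.w.trans (Category.assoc _ _ _).symm),
      j.isoOpensRange.inv ≫ t ≫ (g ⁻¹ᵁ V).ι, hz, ?_, h3.lift_fst _ _ _⟩
    exact IsPullback.of_right (by rw [h3.lift_fst]; exact h1) (h3.lift_snd _ _ _) h3
  choose W k τ hz hpb hk using hloc
  have hcov : iSup W = ⊤ := eq_top_iff.2 fun z _ => Opens.mem_iSup.2 ⟨z, hz z⟩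
  have : QuasiCompact f2 := (IsZariskiLocalAtTarget.iff_of_iSup_eq_top (P := @QuasiCompact) W hcov).2
    fun z => MorphismProperty.of_isPullback (hpb z) ‹QuasiCompact (pullback.snd f g)›
  have hA2 : RelAmple.IsRelAmple f2
      ((Scheme.Modules.pullback q2).obj ((Scheme.Modules.pullback (f ⁻¹ᵁ V).ι).obj L)) := by
    refine (Ample.RelAmple.isRelAmple_iff_of_openCover f2 W hcov).2 fun z => ?_
    exact isRelAmple_of_iso ((Scheme.Modules.pullbackComp (k z) (pullback.fst f g)).app L ≪≫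
      (Scheme.Modules.pullbackCongr (hk z)).app L ≪≫
      ((Scheme.Modules.pullbackComp _ _).app L).symm ≪≫
      ((Scheme.Modules.pullbackComp _ _).app _).symm ≪≫
      ((Scheme.Modules.restrictFunctorIsoPullback _).app _).symm)
      (isRelAmple_of_isPullback (hpb z) h)
  have : Surjective q2 := MorphismProperty.pullback_fst _ _ hqs
  have : IsFinite q2 := MorphismProperty.pullback_fst _ _ hq
  have hc : CompactSpace ↥(pullback (f ∣_ V) q) := QuasiCompact.compactSpace_of_compactSpace f2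
  have hcV : CompactSpace ↥((f ⁻¹ᵁ V : X.Opens) : Scheme.{u}) := q2.surjective.compactSpace q2.continuous
  have : QuasiCompact (f ∣_ V) := (quasiCompact_iff_compactSpace (f ∣_ V)).2 inferInstance
  have h0 : RelAmple.IsRelAmple (q2 ≫ (f ∣_ V))
      ((Scheme.Modules.pullback q2).obj ((Scheme.Modules.pullback (f ⁻¹ᵁ V).ι).obj L)) := by
    have h5 : CohB1.IsAmple ((Scheme.Modules.pullback q2).obj ((Scheme.Modules.pullback (f ⁻¹ᵁ V).ι).obj L)) :=
      (Ample.RelAmple.isRelAmple_iff_isAmple f2).1 hA2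
    exact (Ample.RelAmple.isRelAmple_iff_isAmple (q2 ≫ (f ∣_ V))).2 h5
  obtain ⟨hZc, hZp⟩ := hZ
  let iZ := (Scheme.IdealSheafData.vanishingIdeal (⟨Z, hZc⟩ : Closeds X)).subschemeι
  let i0 := pullback.fst (f ⁻¹ᵁ V).ι iZ
  have hr0 : Set.range i0 = (f ⁻¹ᵁ V).ι ⁻¹' Z := by
    rw [Scheme.Pullback.range_fst, H54.ChevNoeth.range_subschemeι_vanishing]
    rfl
  have hZ0 : ClSub.IsProperOver (f ∣_ V) ((f ⁻¹ᵁ V).ι ⁻¹' Z) := by
    refine (ZarCoh.ProperOver.isProper_comp_iff _ i0 hr0).1 ?_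
    have H : IsPullback (pullback.snd (f ⁻¹ᵁ V).ι iZ) (i0 ≫ (f ∣_ V)) (iZ ≫ f) V.ι :=
      (IsPullback.of_hasPullback (f ⁻¹ᵁ V).ι iZ).flip.paste_vert (isPullback_morphismRestrict f V).flip
    exact MorphismProperty.of_isPullback H hZp
  have hreg : ∀ x, x ∉ (f ⁻¹ᵁ V).ι ⁻¹' Z → Flatness.Reg q2 x := fun x hx => by
    obtain ⟨hd, hi⟩ := hnor _ hx
    let e := (asIso ((f ⁻¹ᵁ V).ι.stalkMap x)).commRingCatIsoToRingEquiv
    exact Or.inl ⟨e.symm.toMulEquiv.isDomain, IsIntegrallyClosed.of_equiv e⟩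
  refine ⟨isCompact_iff_compactSpace.mpr hcV,
    (Ample.RelAmple.isRelAmple_iff_isAmple (f ∣_ V)).1 ?_⟩
  exact (Main.isRelAmple_iff (f ∣_ V) q2 (PicLoc.isInvertible_pullback _ hL) hZ0 hreg).2 h0

/-- Relative ampleness descends along universally open surjective morphisms when the non-normal
locus is proper over the base. -/
theorem isRelAmple_iff [IsLocallyNoetherian Y] (f : X ⟶ Y) [LocallyOfFiniteType f] (g : Y' ⟶ Y)
    [LocallyOfFiniteType g] [UniversallyOpen g] [Surjective g] {L : X.Modules}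
    (hL : PicF.IsInvertible L) {Z : Set X} (hZ : ClSub.IsProperOver f Z)
    (hnor : ∀ x, x ∉ Z → IsDomain (X.presheaf.stalk x) ∧ IsIntegrallyClosed (X.presheaf.stalk x)) :
    RelAmple.IsRelAmple f L ↔
      RelAmple.IsRelAmple (pullback.snd f g) ((Scheme.Modules.pullback (pullback.fst f g)).obj L) := by
  refine ⟨fun h => by haveI := h.1; exact Ample.RelAmple.isRelAmple_baseChange f g h, fun h => ?_⟩
  have key := isAmple_preimage f g hL hZ hnor h
  exact (Ample.RelAmple.isRelAmple_iff f).2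
    ⟨quasiCompact_iff_forall_isAffineOpen.2 fun V hV => (key V hV).1, fun V hV => (key V hV).2⟩

theorem isInvertible_of_rankOne {L : X.Modules} (hL : FlatMod.IsFinLocFreeOfRank 1 L) :
    PicF.IsInvertible L := fun x => by
  obtain ⟨U, hx, ⟨i⟩⟩ := hL x
  exact ⟨U, hx, ⟨i ≪≫ TensorMod.LocFree.freeModOneIso _⟩⟩

end Groth.Agent.H46.AmpDesc.BaseChange
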