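import Groth.Agent.H46.AmpDesc.Descend
import Groth.Agent.Lib.Ample.Extend
import Groth.Agent.Lib.Ample.Pullback

/-!
# Ampleness of an invertible module in coordinates
-/

set_option autoImplicit false

universe u

open CategoryTheory AlgebraicGeometry Opposite TopologicalSpace
open Groth.Agent.Lib.TensorMod Groth.Agent.Lib.TensorMod.Dual Groth.Agent.Lib.TensorMod.Gen
  Groth.Agent.Lib.Ample.GenLocus Groth.Agent.Lib.Ample.Extend Groth.Agent.Lib.TensorMod.Pullback

namespace Groth.Agent.H46.AmpDesc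

variable {X Y : Scheme.{u}} {L : X.Modules}

/-- Frames of `L` on the charts of a cocycle, glued by it. -/
structure Frames (L : X.Modules) (c : Coc X) where
  /-- the frames -/
  e : ∀ i, Γ(L, c.U i)
  gen : ∀ i, IsGen L (c.U i) (e i)
  rel : ∀ i j, rs L (inf_le_right : c.U i ⊓ c.U j ≤ c.U j) (e j) =
    c.g i j • rs L (inf_le_left : c.U i ⊓ c.U j ≤ c.U i) (e i)

theorem exists_frames [CompactSpace X] (hL : PicF.IsInvertible L) :
    ∃ c : Coc X, Nonempty (Frames L c) := by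
  obtain ⟨N, V, e, hV, he, hcov⟩ := Lib.Ample.Extend.exists_affine_frames hL
  choose g hg using fun i j => exists_coord ((he i).res (inf_le_left : V i ⊓ V j ≤ V i))
    (rs L (inf_le_right : V i ⊓ V j ≤ V j) (e j))
  exact ⟨⟨N, V, hV, hcov, g, fun i j => isUnit_of_isGen_smul ((he i).res inf_le_left)
    (hg i j ▸ (he j).res inf_le_right)⟩, ⟨e, he, hg⟩⟩

/-- Frames of the pullback. -/
noncomputable def Frames.pullback {c : Coc X} (F : Frames L c) (h : Y ⟶ X) [IsAffineHom h] :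
    Frames ((Scheme.Modules.pullback h).obj L) (c.pullback h) where
  e i := unitSec h L (F.e i)
  gen i := isGen_unitSec h (F.gen i)
  rel i j := by
    have h1 := unitSec_rs h (inf_le_right : c.U i ⊓ c.U j ≤ c.U j) (F.e j)
    have h2 := unitSec_rs h (inf_le_left : c.U i ⊓ c.U j ≤ c.U i) (F.e i)
    rw [F.rel, unitSec_smul, ← h2] at h1
    exact h1

variable {c : Coc X} (F : Frames L c)

namespace Frames

theorem rel_pow (n : ℕ) (i j : Fin c.m) :
    rs (CohB1.tensorPow L n) (inf_le_right : c.U i ⊓ c.U j ≤ c.U j) (powSec (F.e j) n) =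
      c.g i j ^ n • rs (CohB1.tensorPow L n) (inf_le_left : c.U i ⊓ c.U j ≤ c.U i) (powSec (F.e i) n) := by
  rw [rs_powSec, rs_powSec, F.rel, powSec_smul]

theorem locus_eq (F : Frames L c) {n : ℕ} (s : Coh.structureModule X ⟶ CohB1.tensorPow L n)
    (a : c.Fam) (ha : ∀ i, sv s (c.U i) = a i • powSec (F.e i) n) :
    c.locus a = CohB1.genLocus _ s := by
  rw [Coc.locus, iSup_congr fun i => (genLocus_inf_eq (isGen_powSec (F.gen i) n) s (ha i)).symm,
    ← inf_iSup_eq, c.cov, inf_top_eq]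

theorem exists_coords (F : Frames L c) {n : ℕ} (s : Coh.structureModule X ⟶ CohB1.tensorPow L n) :
    ∃ a : c.Fam, c.IsSec n a ∧ c.locus a = CohB1.genLocus _ s := by
  choose a ha using fun i => exists_coord (isGen_powSec (F.gen i) n) (sv s (c.U i))
  refine ⟨a, fun i j => ?_, F.locus_eq s a ha⟩
  refine (((isGen_powSec (F.gen i) n).res (inf_le_left : c.U i ⊓ c.U j ≤ c.U i)) _ le_rfl).1 ?_
  simp only [rs_self]
  have h1 := congrArg (rs _ (inf_le_left : c.U i ⊓ c.U j ≤ c.U i)) (ha i)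
  have h2 := congrArg (rs _ (inf_le_right : c.U i ⊓ c.U j ≤ c.U j)) (ha j)
  rw [rs_sv, rs_smul] at h1 h2
  rw [F.rel_pow, smul_smul, h1] at h2
  rw [mul_comm (c.g i j ^ n)]
  exact h2

theorem exists_section (F : Frames L c) {n : ℕ} {a : c.Fam} (ha : c.IsSec n a) :
    ∃ s : Coh.structureModule X ⟶ CohB1.tensorPow L n, CohB1.genLocus _ s = c.locus a := by
  obtain ⟨t, ht, -⟩ := TopCat.Sheaf.existsUnique_gluing'
    (⟨_, (CohB1.tensorPow L n).isSheaf⟩ : TopCat.Sheaf Ab.{u} X) c.U ⊤ (fun i => homOfLE le_top)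
    c.cov.ge (fun i => a i • powSec (F.e i) n) fun i j => by
      change rs (CohB1.tensorPow L n) (inf_le_left : c.U i ⊓ c.U j ≤ c.U i) (a i • powSec (F.e i) n) =
        rs _ (inf_le_right : c.U i ⊓ c.U j ≤ c.U j) (a j • powSec (F.e j) n)
      rw [rs_smul, rs_smul, F.rel_pow, smul_smul, mul_comm]
      exact congrArg (· • _) (ha i j)
  obtain ⟨s, hs⟩ := exists_hom_of_sec t
  refine ⟨s, (F.locus_eq s a fun i => ?_).symm⟩
  rw [← rs_sv s (le_top : c.U i ≤ ⊤), hs]
  exact ht i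

/-- Ampleness is read off the coordinates. -/
theorem isAmple_iff (F : Frames L c) (hL : PicF.IsInvertible L) : CohB1.IsAmple L ↔ c.Amp := by
  constructor
  · rintro ⟨-, hc, hx⟩
    refine ⟨hc, fun x => ?_⟩
    obtain ⟨n, s, hxs, hs⟩ := hx x
    obtain ⟨a, ha, hloc⟩ := F.exists_coords s
    exact ⟨n + 1, a, Nat.succ_pos _, ha, hloc ▸ hxs, hloc ▸ hs⟩
  · rintro ⟨hc, hx⟩
    refine ⟨hL, hc, fun x => ?_⟩
    obtain ⟨n, a, hn, ha, hxa, haff⟩ := hx x
    obtain ⟨m, rfl⟩ := Nat.exists_eq_add_one.mpr hn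
    obtain ⟨s, hs⟩ := F.exists_section ha
    exact ⟨m, s, hs ▸ hxa, hs ▸ haff⟩

theorem isAmple_pullback_iff (F : Frames L c) (hL : PicF.IsInvertible L) (h : Y ⟶ X) [IsAffineHom h] :
    CohB1.IsAmple ((Scheme.Modules.pullback h).obj L) ↔ (c.pullback h).Amp :=
  (F.pullback h).isAmple_iff (PicLoc.isInvertible_pullback h hL)

end Frames

end Groth.Agent.H46.AmpDesc
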