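import Groth.Agent.H46.AmpDesc.Descend
import Mathlib.RingTheory.Finiteness.Basic
import Mathlib.Tactic.LinearCombination

/-!
# The conductor of a finite morphism which is an isomorphism outside a closed subset
-/

set_option autoImplicit false

universe u

open CategoryTheory CategoryTheory.Limits AlgebraicGeometry Opposite TopologicalSpace

namespace Groth.Agent.H46.AmpDesc

variable {X X1 : Scheme.{u}} (h : X1 ⟶ X)

/-- Over a reduced scheme functions inject along a surjection. -/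
theorem app_injective [IsReduced X] [Surjective h] (U : X.Opens) : Function.Injective (h.app U) := by
  refine (injective_iff_map_eq_zero _).2 fun a ha => ?_
  refine (basicOpen_eq_bot_iff a).mp (eq_bot_iff.mpr fun x hx => ?_)
  obtain ⟨x1, rfl⟩ := h.surjective x
  have h1 : x1 ∈ h ⁻¹ᵁ X.basicOpen a := hx
  rw [Scheme.preimage_basicOpen, ha, Scheme.basicOpen_zero] at h1
  exact h1

/-- A morphism which is an isomorphism over a dense open and is closed is surjective. -/
theorem surjective_of_isIso_dense [IsFinite h] (V : X.Opens) (hV : Dense (V : Set X)) [IsIso (h ∣_ V)] :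
    Surjective h := by
  refine ⟨Set.range_eq_univ.mp (h.isClosedMap.isClosed_range.closure_eq ▸
    (hV.mono ?_).closure_eq)⟩
  intro x hx
  obtain ⟨y, hy⟩ := (h ∣_ V).surjective ⟨x, hx⟩
  refine ⟨(h ⁻¹ᵁ V).ι y, ?_⟩
  rw [← Scheme.Hom.comp_apply, ← morphismRestrict_ι, Scheme.Hom.comp_apply, hy]
  rfl

/-- The functions all whose multiples upstairs come from downstairs. -/
def cond (U : X.Opens) : Ideal Γ(X, U) where
  carrier := {a | ∀ β, ∃ b, h.app U b = β * h.app U a}
  zero_mem' β := ⟨0, by simp⟩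
  add_mem' {a a'} ha ha' β := by
    obtain ⟨b, hb⟩ := ha β
    obtain ⟨b', hb'⟩ := ha' β
    exact ⟨b + b', by rw [map_add, map_add, hb, hb', mul_add]⟩
  smul_mem' r a ha β := by
    obtain ⟨b, hb⟩ := ha (β * h.app U r)
    exact ⟨b, by rw [hb, smul_eq_mul, map_mul, mul_assoc]⟩

theorem map_le_range {U : X.Opens} {I : Ideal Γ(X, U)} (hI : I ≤ cond h U) :
    ∀ s ∈ I.map (h.app U).hom, ∃ b, h.app U b = s := by
  intro s hs
  rw [Ideal.map] at hs
  induction hs using Submodule.span_induction with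
  | mem s hs =>
    obtain ⟨a, ha, rfl⟩ := hs
    exact ⟨a, rfl⟩
  | zero => exact ⟨0, map_zero _⟩
  | add s t _ _ hs ht =>
    obtain ⟨b, rfl⟩ := hs
    obtain ⟨b', rfl⟩ := ht
    exact ⟨b + b', map_add _ _ _⟩
  | smul β s hs' hs =>
    -- a multiple of an element of the image of `cond`
    have key : ∀ t ∈ I.map (h.app U).hom, ∀ γ, ∃ b, h.app U b = γ * t := by
      intro t ht
      rw [Ideal.map] at ht
      induction ht using Submodule.span_induction with
      | mem t ht =>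
        obtain ⟨a, ha, rfl⟩ := ht
        exact fun γ => hI ha γ
      | zero => exact fun γ => ⟨0, by simp⟩
      | add t t' _ _ h1 h2 =>
        intro γ
        obtain ⟨b, hb⟩ := h1 γ
        obtain ⟨b', hb'⟩ := h2 γ
        exact ⟨b + b', by rw [map_add, hb, hb', mul_add]⟩
      | smul δ t _ h1 =>
        intro γ
        obtain ⟨b, hb⟩ := h1 (γ * δ)
        exact ⟨b, by rw [hb, smul_eq_mul, mul_assoc]⟩
    exact key s hs' β

theorem exists_app_eq_of_isIso [IsAffineHom h] {U O : X.Opens} (hO : O ≤ U) [IsIso (h ∣_ U)]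
    (γ : Γ(X1, h ⁻¹ᵁ O)) : ∃ b, h.app O b = γ := by
  have : IsIso (h.app O) := by
    have h1 : IsIso ((h ∣_ U).app (U.ι ⁻¹ᵁ O)) := inferInstance
    have e : U.ι ''ᵁ U.ι ⁻¹ᵁ O = O := by
      rw [Scheme.Hom.image_preimage_eq_opensRange_inf, Scheme.Opens.opensRange_ι, inf_eq_right.mpr hO]
    rw [morphismRestrict_app] at h1
    have h2 : IsIso (h.app (U.ι ''ᵁ U.ι ⁻¹ᵁ O)) := @IsIso.of_isIso_comp_right _ _ _ _ _ _ _ (Functor.map_isIso _ _) h1
    rwa [e] at h2
  exact ⟨inv (h.app O) γ, by rw [← CategoryTheory.comp_apply, IsIso.inv_hom_id]; rfl⟩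

/-- On an affine open some power of a function supported where `h` is an isomorphism is in the
conductor. -/
theorem exists_pow_mem_cond [IsFinite h] {U W : X.Opens} (hU : IsAffineOpen U) [IsIso (h ∣_ W)]
    (φ : Γ(X, U)) (hφ : X.basicOpen φ ≤ W) : ∃ M, φ ^ M ∈ cond h U := by
  classical
  let := (h.app U).hom.toAlgebra
  have : Module.Finite Γ(X, U) Γ(X1, h ⁻¹ᵁ U) := IsFinite.finite_app h U hU
  obtain ⟨s, hs⟩ := (Module.Finite.fg_top : (⊤ : Submodule Γ(X, U) Γ(X1, h ⁻¹ᵁ U)).FG)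
  have hone : ∀ β, ∃ M, ∀ M', M ≤ M' → ∃ b, h.app U b = β * h.app U (φ ^ M') := by
    intro β
    have hpre : h ⁻¹ᵁ X.basicOpen φ = X1.basicOpen (h.app U φ) := Scheme.preimage_basicOpen h φ
    obtain ⟨γ, hγ⟩ := exists_app_eq_of_isIso h hφ (res (h.preimage_mono (X.basicOpen_le φ)) β)
    obtain ⟨e, b, hb⟩ := exists_fraction' hU φ γ
    obtain ⟨e', he'⟩ := exists_pow_mul_eq_zero (hU.preimage h) (h.app U φ)
      (h.app U (φ ^ e) * β - h.app U b) (by
        have h1 := congrArg (fun z => res hpre.ge (h.app _ z)) hb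
        simp only [map_mul, map_pow, app_res, hγ, res_res] at h1
        rw [map_sub, map_mul, map_pow, map_pow, h1, sub_self])
    refine ⟨e + e', fun M' hM' => ?_⟩
    obtain ⟨k, rfl⟩ : ∃ k, M' = k + e' + e := ⟨M' - e' - e, by omega⟩
    refine ⟨φ ^ (k + e') * b, ?_⟩
    rw [mul_sub, sub_eq_zero, map_pow] at he'
    rw [map_mul, map_pow, map_pow]
    linear_combination (h.app U φ ^ k) * -he'
  choose M hM using hone
  refine ⟨s.sup M, fun β => ?_⟩
  have hβ : β ∈ Submodule.span Γ(X, U) (s : Set Γ(X1, h ⁻¹ᵁ U)) := hs ▸ Submodule.mem_top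
  induction hβ using Submodule.span_induction with
  | mem x hx => exact hM x _ (Finset.le_sup hx)
  | zero => exact ⟨0, by simp⟩
  | add x y _ _ h1 h2 =>
    obtain ⟨b, hb⟩ := h1
    obtain ⟨b', hb'⟩ := h2
    exact ⟨b + b', by rw [map_add, hb, hb', add_mul]⟩
  | smul r x _ h1 =>
    obtain ⟨b, hb⟩ := h1
    exact ⟨r * b, by rw [map_mul, hb, Algebra.smul_def, mul_assoc]; rfl⟩

/-- A uniform power of the ideal of the complement of the isomorphism locus is in the conductor. -/
theorem exists_pow_le_cond [IsNoetherian X] [IsFinite h] (W : X.Opens) [IsIso (h ∣_ W)]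
    (Z : Closeds X) (hZW : ∀ x, x ∉ W → x ∈ Z) :
    ∃ N, 0 < N ∧ ∀ U : X.affineOpens, ∀ x ∈ U.1, ∃ U' : X.affineOpens, x ∈ U'.1 ∧
      (Scheme.IdealSheafData.vanishingIdeal Z).ideal U' ^ N ≤ cond h U'.1 := by
  classical
  obtain ⟨t, ht⟩ := isCompact_univ.elim_finite_subcover (fun U : X.affineOpens => (U.1 : Set X))
    (fun U => U.1.2) fun x _ => Set.mem_iUnion.mpr (by
      obtain ⟨U, hU, hx, -⟩ := exists_isAffineOpen_mem_and_subset (Opens.mem_top x)
      exact ⟨⟨U, hU⟩, hx⟩)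
  have hN : ∀ U : X.affineOpens, ∃ N, (Scheme.IdealSheafData.vanishingIdeal Z).ideal U ^ N ≤ cond h U.1 := by
    intro U
    have : IsNoetherianRing Γ(X, U.1) := IsLocallyNoetherian.component_noetherian U
    refine Ideal.exists_pow_le_of_le_radical_of_fg (fun φ hφ => ?_) (IsNoetherian.noetherian _)
    obtain ⟨M, hM⟩ := exists_pow_mem_cond h U.2 (W := W) φ fun x hx => by
      by_contra hxW
      have h1 : x ∈ (Scheme.IdealSheafData.vanishingIdeal Z).support := by
        rw [← SetLike.mem_coe, Scheme.IdealSheafData.coe_support_vanishingIdeal]; exact hZW x hxW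
      rw [Scheme.IdealSheafData.mem_support_iff_of_mem (X.basicOpen_le φ hx),
        Scheme.mem_zeroLocus_iff] at h1
      exact h1 φ hφ hx
    exact ⟨M, hM⟩
  choose N hN using hN
  refine ⟨t.sup N + 1, Nat.succ_pos _, fun U x _ => ?_⟩
  obtain ⟨U', hU', hx⟩ := Set.mem_iUnion₂.mp (ht (Set.mem_univ x))
  exact ⟨U', hx, (Ideal.pow_le_pow_right ((Finset.le_sup hU').trans (Nat.le_succ _))).trans (hN U')⟩

/-- The conductor condition passes to smaller basic opens. -/
theorem le_cond_basicOpen [IsAffineHom h] (J : X.IdealSheafData) {U : X.affineOpens}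
    (hJ : J.ideal U ≤ cond h U.1) (φ : Γ(X, U.1)) :
    J.ideal (X.affineBasicOpen φ) ≤ cond h (X.basicOpen φ) := by
  rw [← J.map_ideal (X.affineBasicOpen_le φ), Ideal.map_le_iff_le_comap]
  intro a ha γ
  have hpre : h ⁻¹ᵁ X.basicOpen φ = X1.basicOpen (h.app U.1 φ) := Scheme.preimage_basicOpen h φ
  obtain ⟨e, β, hβ⟩ := exists_fraction' (U.2.preimage h) (h.app U.1 φ) (res hpre.ge γ)
  obtain ⟨b, hb⟩ := hJ ha β
  have hu : IsUnit (res (X.basicOpen_le φ) φ ^ e) := (isUnit_res_basicOpen φ).pow e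
  refine ⟨↑hu.unit⁻¹ * res (X.basicOpen_le φ) b, (hu.map (h.app (X.basicOpen φ)).hom).mul_right_injective ?_⟩
  dsimp only
  rw [← map_mul, ← mul_assoc, IsUnit.mul_val_inv, one_mul, ← mul_assoc, app_res, hb, map_mul,
    map_pow, app_res]
  have h1 := congrArg (res hpre.le) hβ
  simp only [map_mul, map_pow, res_res, res_self] at h1
  rw [h1]
  congr 1
  exact (app_res h (X.basicOpen_le φ) a).symm

/-- The conductor condition for an ideal sheaf on every affine open. -/
theorem cond_global [IsReduced X] [Surjective h] [IsAffineHom h] (J : X.IdealSheafData)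
    (hJ : ∀ U : X.affineOpens, ∀ x ∈ U.1, ∃ U' : X.affineOpens, x ∈ U'.1 ∧ J.ideal U' ≤ cond h U'.1)
    (U : X.affineOpens) (s : Γ(X1, h ⁻¹ᵁ U.1)) (hs : s ∈ (J.ideal U).map (h.app U.1).hom) :
    ∃ b, h.app U.1 b = s := by
  have hloc : ∀ x : U.1, ∃ (O : X.Opens) (hO : O ≤ U.1), x.1 ∈ O ∧
      ∃ b, h.app O b = res (h.preimage_mono hO) s := by
    rintro ⟨x, hx⟩
    obtain ⟨U', hx', hJU'⟩ := hJ U x hx
    obtain ⟨f, g, hfg, hxf⟩ := exists_basicOpen_le_affine_inter U.2 U'.2 x ⟨hx, hx'⟩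
    refine ⟨X.basicOpen g, hfg ▸ X.basicOpen_le f, hfg ▸ hxf, map_le_range h (le_cond_basicOpen h J hJU' g) _ ?_⟩
    have hle : X.affineBasicOpen g ≤ U := (hfg ▸ X.basicOpen_le f : X.basicOpen g ≤ U.1)
    rw [← J.map_ideal hle, Ideal.map_map]
    have h1 := Ideal.mem_map_of_mem (res (h.preimage_mono (show X.basicOpen g ≤ U.1 from hle))) hs
    rw [Ideal.map_map] at h1
    refine (congrArg (fun φ => res _ s ∈ Ideal.map φ (J.ideal U)) ?_).mp h1
    exact RingHom.ext fun a => (app_res h _ a).symm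
  choose O hO hxO b hb using hloc
  obtain ⟨a, ha, -⟩ := TopCat.Sheaf.existsUnique_gluing' X.sheaf O U.1 (fun x => homOfLE (hO x))
    (fun x hx => Opens.mem_iSup.mpr ⟨⟨x, hx⟩, hxO _⟩) b fun x y => by
      refine app_injective h _ ?_
      show h.app _ (res (inf_le_left : O x ⊓ O y ≤ O x) (b x)) =
        h.app _ (res (inf_le_right : O x ⊓ O y ≤ O y) (b y))
      rw [app_res, app_res, hb, hb, res_res, res_res]
  refine ⟨a, Coc.eq_of_locally (fun x => h ⁻¹ᵁ O x) (fun x => h.preimage_mono (hO x)) ?_ _ _ fun x => ?_⟩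
  · intro y hy
    exact Opens.mem_iSup.mpr ⟨⟨h y, hy⟩, hxO _⟩
  · rw [← app_res h (hO x), show res (hO x) a = b x from ha x, hb]

end Groth.Agent.H46.AmpDesc
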