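import Mathlib.AlgebraicGeometry.Morphisms.Affine
import Mathlib.AlgebraicGeometry.Morphisms.Separated
import Mathlib.AlgebraicGeometry.Morphisms.QuasiSeparated
import Mathlib.AlgebraicGeometry.Noetherian

/-!
# Sections of powers of an invertible module in coordinates

An invertible module with frames on finitely many affine opens is recorded by its transition
functions; a section of its `n`-th power by the family of its coordinates.
-/

set_option autoImplicit false

universe u

open CategoryTheory AlgebraicGeometry Opposite TopologicalSpace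

namespace Groth.Agent.H46.AmpDesc

variable {X Y : Scheme.{u}}

/-- Restriction of functions. -/
abbrev res {U V : X.Opens} (h : V ≤ U) : Γ(X, U) →+* Γ(X, V) :=
  (X.presheaf.map (homOfLE h).op).hom

theorem res_res {U V W : X.Opens} (h : V ≤ U) (h' : W ≤ V) (a : Γ(X, U)) :
    res h' (res h a) = res (h'.trans h) a := by
  show (X.presheaf.map _ ≫ X.presheaf.map _) a = _
  rw [← Functor.map_comp]
  rfl

theorem res_self {U : X.Opens} (a : Γ(X, U)) : res (le_refl U) a = a := by
  rw [res, show (homOfLE (le_refl U)).op = 𝟙 (op U) from rfl, CategoryTheory.Functor.map_id]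
  rfl

theorem app_res (h : X ⟶ Y) {U V : Y.Opens} (hVU : V ≤ U) (a : Γ(Y, U)) :
    h.app V (res hVU a) = res (h.preimage_mono hVU) (h.app U a) :=
  congr($(h.naturality (homOfLE hVU).op) a)

/-- Finitely many affine opens with transition functions of an invertible module. -/
structure Coc (X : Scheme.{u}) where
  /-- the number of charts -/
  m : ℕ
  /-- the charts -/
  U : Fin m → X.Opens
  aff : ∀ i, IsAffineOpen (U i)
  cov : iSup U = ⊤
  /-- the transition functions -/
  g : ∀ i j, Γ(X, U i ⊓ U j)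
  unit : ∀ i j, IsUnit (g i j)

namespace Coc

variable (c : Coc X)

/-- Families of coordinates. -/
abbrev Fam : Type u := ∀ i, Γ(X, c.U i)

/-- The family is a section of the `n`-th power. -/
def IsSec (n : ℕ) (a : c.Fam) : Prop :=
  ∀ i j, res inf_le_left (a i) = c.g i j ^ n * res inf_le_right (a j)

/-- Restrictions of a global function. -/
def const : Γ(X, ⊤) →+* c.Fam := RingHom.pi fun i => res (le_top : c.U i ≤ ⊤)

variable {c} {n k : ℕ} {a b : c.Fam}

theorem IsSec.zero : c.IsSec n 0 := fun i j => by simp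

theorem IsSec.add (ha : c.IsSec n a) (hb : c.IsSec n b) : c.IsSec n (a + b) := fun i j => by
  simp only [Pi.add_apply, map_add, ha i j, hb i j, mul_add]

theorem IsSec.mul (ha : c.IsSec n a) (hb : c.IsSec k b) : c.IsSec (n + k) (a * b) := fun i j => by
  simp only [Pi.mul_apply, map_mul, ha i j, hb i j, pow_add]
  ring

theorem IsSec.const (r : Γ(X, ⊤)) : c.IsSec 0 (c.const r) := fun i j => by
  simp only [Coc.const, RingHom.pi_apply, res_res, pow_zero, one_mul]

theorem IsSec.pow (ha : c.IsSec n a) : ∀ e : ℕ, c.IsSec (n * e) (a ^ e)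
  | 0 => fun i j => by simp
  | e + 1 => by rw [pow_succ, Nat.mul_succ]; exact (ha.pow e).mul ha

theorem IsSec.sum {ι : Type*} (s : Finset ι) (f : ι → c.Fam) (h : ∀ i ∈ s, c.IsSec n (f i)) :
    c.IsSec n (∑ i ∈ s, f i) :=
  Finset.sum_induction f (c.IsSec n) (fun _ _ => IsSec.add) IsSec.zero h

theorem IsSec.prod {ι : Type*} (s : Finset ι) (f : ι → c.Fam) (d : ι → ℕ)
    (h : ∀ i ∈ s, c.IsSec (d i) (f i)) : c.IsSec (∑ i ∈ s, d i) (∏ i ∈ s, f i) := by
  classical
  induction s using Finset.induction_on with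
  | empty => intro i j; simp
  | @insert x t hx ih =>
    rw [Finset.prod_insert hx, Finset.sum_insert hx]
    exact (h x (Finset.mem_insert_self _ _)).mul (ih fun i hi => h i (Finset.mem_insert_of_mem hi))

theorem IsSec.congr (ha : c.IsSec n a) (h : n = k) : c.IsSec k a := h ▸ ha

variable (c)

/-- The locus where the section generates. -/
def locus (a : c.Fam) : X.Opens := ⨆ i, X.basicOpen (a i)

variable {c}

theorem basicOpen_le_locus (a : c.Fam) (i : Fin c.m) : X.basicOpen (a i) ≤ c.locus a :=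
  le_iSup (fun i => X.basicOpen (a i)) i

theorem exists_mem_U (c : Coc X) (x : X) : ∃ i, x ∈ c.U i :=
  Opens.mem_iSup.mp (by rw [c.cov]; trivial)

theorem IsSec.locus_inf (ha : c.IsSec n a) (i : Fin c.m) :
    c.locus a ⊓ c.U i = X.basicOpen (a i) := by
  refine le_antisymm ?_ (le_inf (c.basicOpen_le_locus a i) (X.basicOpen_le _))
  rintro x ⟨hx, hxi⟩
  obtain ⟨j, hj⟩ := Opens.mem_iSup.mp hx
  have hxj : x ∈ c.U j := X.basicOpen_le _ hj
  have h : x ∈ X.basicOpen (res (inf_le_left : c.U i ⊓ c.U j ≤ c.U i) (a i)) := by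
    rw [ha i j, Scheme.basicOpen_mul, Scheme.basicOpen_of_isUnit _ ((c.unit i j).pow n),
      Scheme.basicOpen_res]
    exact ⟨⟨hxi, hxj⟩, ⟨hxi, hxj⟩, hj⟩
  rw [Scheme.basicOpen_res] at h
  exact h.2

theorem IsSec.mem_locus_iff (ha : c.IsSec n a) {x : X} {i : Fin c.m} (hx : x ∈ c.U i) :
    x ∈ c.locus a ↔ x ∈ X.basicOpen (a i) := by
  rw [← ha.locus_inf i]
  exact ⟨fun h => ⟨h, hx⟩, fun h => h.1⟩

theorem IsSec.locus_mul (ha : c.IsSec n a) (hb : c.IsSec k b) :
    c.locus (a * b) = c.locus a ⊓ c.locus b := by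
  ext x
  obtain ⟨i, hi⟩ := c.exists_mem_U x
  show x ∈ c.locus (a * b) ↔ x ∈ c.locus a ∧ x ∈ c.locus b
  rw [(ha.mul hb).mem_locus_iff hi, ha.mem_locus_iff hi, hb.mem_locus_iff hi, Pi.mul_apply,
    Scheme.basicOpen_mul]
  rfl

theorem IsSec.locus_pow (ha : c.IsSec n a) {e : ℕ} (he : 0 < e) : c.locus (a ^ e) = c.locus a := by
  refine iSup_congr fun i => ?_
  rw [Pi.pow_apply]
  exact Scheme.basicOpen_pow _ _ he

/-- An affine open meets a locus in an affine open. -/
theorem IsSec.isAffineOpen_locus_inf [X.IsSeparated] (ha : c.IsSec n a) {O : X.Opens}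
    (hO : IsAffineOpen O) : IsAffineOpen (c.locus a ⊓ O) := by
  have : IsAffineHom (c.locus a).ι := by
    refine isAffineHom_of_forall_exists_isAffineOpen _ fun x => ?_
    obtain ⟨i, hi⟩ := c.exists_mem_U x
    refine ⟨c.U i, hi, c.aff i, ?_⟩
    rw [← (c.locus a).ι.isAffineOpen_iff_of_isOpenImmersion,
      Scheme.Hom.image_preimage_eq_opensRange_inf, Scheme.Opens.opensRange_ι, ha.locus_inf i]
    exact (c.aff i).basicOpen (a i)
  have h := ((c.locus a).ι.isAffineOpen_iff_of_isOpenImmersion).2 (hO.preimage (c.locus a).ι)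
  rwa [Scheme.Hom.image_preimage_eq_opensRange_inf, Scheme.Opens.opensRange_ι] at h

variable (c)

/-- The pullback along an affine morphism. -/
@[simps]
def pullback (h : Y ⟶ X) [IsAffineHom h] : Coc Y where
  m := c.m
  U i := h ⁻¹ᵁ c.U i
  aff i := (c.aff i).preimage h
  cov := by rw [← Scheme.Hom.preimage_iSup, c.cov, Scheme.Hom.preimage_top]
  g i j := h.app (c.U i ⊓ c.U j) (c.g i j)
  unit i j := (c.unit i j).map (h.app (c.U i ⊓ c.U j)).hom

/-- The pullback of families. -/
def pb (h : Y ⟶ X) [IsAffineHom h] : c.Fam →+* (c.pullback h).Fam :=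
  RingHom.pi fun i => (h.app (c.U i)).hom.comp (Pi.evalRingHom (fun i => Γ(X, c.U i)) i)

variable {c}

theorem pb_apply (h : Y ⟶ X) [IsAffineHom h] (a : c.Fam) (i : Fin c.m) :
    c.pb h a i = h.app (c.U i) (a i) := rfl

theorem IsSec.pullback (h : Y ⟶ X) [IsAffineHom h] (ha : c.IsSec n a) :
    (c.pullback h).IsSec n (c.pb h a) := fun i j => by
  refine Eq.trans (app_res h inf_le_left (a i)).symm ?_
  rw [ha i j, map_mul, map_pow, app_res]
  rfl

theorem locus_pb (h : Y ⟶ X) [IsAffineHom h] (a : c.Fam) :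
    (c.pullback h).locus (c.pb h a) = h ⁻¹ᵁ c.locus a := by
  rw [Coc.locus, Coc.locus, Scheme.Hom.preimage_iSup]
  exact iSup_congr fun i => (Scheme.preimage_basicOpen h (a i)).symm

variable (c)

/-- The cocycle of a power. -/
@[simps]
def power (D : ℕ) : Coc X where
  m := c.m
  U := c.U
  aff := c.aff
  cov := c.cov
  g i j := c.g i j ^ D
  unit i j := (c.unit i j).pow D

variable {c}

theorem isSec_power_iff {D : ℕ} : (c.power D).IsSec n a ↔ c.IsSec (D * n) a := by
  have key : ∀ i j, (c.g i j ^ D) ^ n = c.g i j ^ (D * n) := fun i j => (pow_mul _ D n).symm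
  exact ⟨fun h i j => (key i j) ▸ h i j, fun h i j => ((key i j).symm ▸ h i j :)⟩

variable (c)

/-- The coordinate form of ampleness. -/
def Amp : Prop :=
  CompactSpace X ∧ ∀ x : X, ∃ (n : ℕ) (a : c.Fam), 0 < n ∧ c.IsSec n a ∧ x ∈ c.locus a ∧
    IsAffineOpen (c.locus a)

variable {c}

/-- Ampleness passes to the source of an affine morphism. -/
theorem Amp.pullback [QuasiCompactSpace : CompactSpace Y] (h : Y ⟶ X) [IsAffineHom h] (H : c.Amp) :
    (c.pullback h).Amp := ⟨inferInstance, fun y => by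
  obtain ⟨n, a, hn, ha, hy, haff⟩ := H.2 (h y)
  refine ⟨n, c.pb h a, hn, ha.pullback h, ?_, ?_⟩
  · rw [locus_pb]; exact hy
  · rw [locus_pb]; exact haff.preimage h⟩

end Coc

end Groth.Agent.H46.AmpDesc
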