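import Groth.Agent.H46.AmpDesc.Lift
import Groth.Agent.H54.ChevNoeth
import Groth.Agent.Lib.Ideal.Comap
import Mathlib.AlgebraicGeometry.Morphisms.Finite
import Mathlib.AlgebraicGeometry.IdealSheaf.Functorial
import Mathlib.AlgebraicGeometry.PullbackCarrier

/-!
# Descending ampleness along a finite surjection which is an isomorphism off a proper subscheme
-/

set_option autoImplicit false

universe u

open CategoryTheory CategoryTheory.Limits AlgebraicGeometry Opposite TopologicalSpace

namespace Groth.Agent.H46.AmpDesc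

variable {X X1 V : Scheme.{u}}

/-- An open with affine preimage under a finite surjection is affine. -/
theorem isAffineOpen_of_preimage [IsNoetherian X] (h : X1 ⟶ X) [IsFinite h] [Surjective h]
    {O : X.Opens} (hO : IsAffineOpen (h ⁻¹ᵁ O)) : IsAffineOpen O := by
  have : IsAffine ((h ⁻¹ᵁ O : X1.Opens) : Scheme.{u}) := hO
  have : IsFinite (h ∣_ O) := IsZariskiLocalAtTarget.restrict (P := @IsFinite) inferInstance O
  have : Surjective (h ∣_ O) := IsZariskiLocalAtTarget.restrict (P := @Surjective) inferInstance O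
  have : IsNoetherian (O : Scheme.{u}) :=
    { toCompactSpace := isCompact_iff_compactSpace.mp (NoetherianSpace.isCompact (O : Set X)) }
  exact H54.ChevNoeth.isAffine_of_finite_surjective (h ∣_ O)

/-- The ideal of the inverse image of a closed subscheme under an affine morphism. -/
theorem ker_fst_app (h : X1 ⟶ X) [IsAffineHom h] (i : V ⟶ X) [IsClosedImmersion i] {U : X.Opens}
    (hU : IsAffineOpen U) :
    RingHom.ker ((pullback.fst h i).app (h ⁻¹ᵁ U)).hom =
      (RingHom.ker (i.app U).hom).map (h.app U).hom := by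
  rw [← Scheme.Hom.ker_apply (pullback.fst h i) ⟨_, hU.preimage h⟩,
    ← Scheme.Hom.ker_apply i ⟨U, hU⟩, Scheme.IdealSheafData.ker_fst_of_isClosedImmersion,
    Lib.Ideal.Comap.ideal_comap h i.ker ⟨U, hU⟩ ⟨_, hU.preimage h⟩ le_rfl, Scheme.Hom.appLE_eq_app]

namespace Coc

variable {c : Coc X} {n : ℕ}

theorem isSec_pullback_power_iff {Y : Scheme.{u}} (j : Y ⟶ X) [IsAffineHom j] {D : ℕ}
    {a : (c.pullback j).Fam} :
    ((c.power D).pullback j).IsSec n a ↔ (c.pullback j).IsSec (D * n) a := by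
  have key : ∀ k l, (j.app (c.U k ⊓ c.U l) (c.g k l ^ D)) ^ n =
      (j.app (c.U k ⊓ c.U l) (c.g k l)) ^ (D * n) := fun k l => by rw [map_pow, ← pow_mul]
  exact ⟨fun H k l => (key k l) ▸ H k l, fun H k l => ((key k l).symm ▸ H k l :)⟩

/-- A section upstairs whose coordinates descend is the pullback of a section. -/
theorem exists_descend (h : X1 ⟶ X) [IsAffineHom h] [X.IsSeparated]
    (hinj : ∀ U : X.Opens, IsAffineOpen U → Function.Injective (h.app U))
    {b : (c.pullback h).Fam} (hb : (c.pullback h).IsSec n b)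
    (hr : ∀ k, ∃ a, h.app (c.U k) a = b k) : ∃ s : c.Fam, c.IsSec n s ∧ c.pb h s = b := by
  choose s hs using hr
  refine ⟨s, fun k l => hinj _ ((c.aff k).inf (c.aff l)) ?_, funext hs⟩
  rw [map_mul, map_pow, app_res, app_res, hs, hs]
  exact hb k l

/-- A section upstairs with affine locus off the closed subscheme has a power which descends. -/
theorem exists_sec_of_notMem [IsNoetherian X] [X.IsSeparated] (h : X1 ⟶ X) [IsFinite h]
    [Surjective h] (hinj : ∀ U : X.Opens, IsAffineOpen U → Function.Injective (h.app U))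
    (i : V ⟶ X) [IsClosedImmersion i]
    (hcond : ∀ U : X.Opens, IsAffineOpen U →
      ∀ s ∈ (RingHom.ker (i.app U).hom).map (h.app U).hom, ∃ a, h.app U a = s)
    (H1 : (c.pullback h).Amp) {x : X} (hx : x ∉ Set.range i) :
    ∃ (n : ℕ) (a : c.Fam), 0 < n ∧ c.IsSec n a ∧ x ∈ c.locus a ∧ IsAffineOpen (c.locus a) := by
  classical
  obtain ⟨x1, rfl⟩ := h.surjective x
  have : X1.IsSeparated := ⟨by rw [← terminal.comp_from h]; infer_instance⟩
  obtain ⟨d, t, hd, ht, hx1, haff⟩ := H1.2 x1
  let O1 := (c.pullback h).locus t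
  let Q : X1.Opens := h ⁻¹ᵁ ⟨(Set.range i)ᶜ, i.isClosedEmbedding.isClosed_range.isOpen_compl⟩
  obtain ⟨φ, hφQ, hφx⟩ := haff.exists_basicOpen_le (V := Q) ⟨x1, hx⟩ hx1
  let w : ∀ k, Γ(X1, X1.basicOpen (t k)) := fun k => res ((c.pullback h).basicOpen_le_locus t k) φ
  obtain ⟨e, b, hb, hbt⟩ := exists_extend ht w (k := 0) fun k l => by
    simp only [w, res_res, pow_zero, map_one, one_mul]
  let T := b * t
  have hT : (c.pullback h).IsSec (0 + d * e + d) T := hb.mul ht
  have hTk : ∀ k, X1.basicOpen (T k) = X1.basicOpen (t k) ⊓ X1.basicOpen φ := by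
    intro k
    have hres := Scheme.basicOpen_res X1 (b k) (homOfLE (X1.basicOpen_le (t k))).op
    have h2 : X1.basicOpen (res (X1.basicOpen_le (t k)) (b k)) =
        X1.basicOpen (t k) ⊓ X1.basicOpen φ := by
      rw [hbt k, Scheme.basicOpen_mul, Scheme.basicOpen_of_isUnit _ ((isUnit_res_basicOpen _).pow e),
        Scheme.basicOpen_res, ← inf_assoc, inf_idem]
    rw [← h2]
    refine Eq.trans ?_ hres.symm
    show X1.basicOpen (b k * t k) = _
    rw [Scheme.basicOpen_mul, inf_comm]
  have hTloc : (c.pullback h).locus T = X1.basicOpen φ := by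
    rw [Coc.locus, iSup_congr hTk, ← iSup_inf_eq]
    exact inf_eq_right.mpr (X1.basicOpen_le φ)
  -- powers of the coordinates lie in the ideal
  have hker : ∀ k, ∃ e', T k ^ e' ∈ (RingHom.ker (i.app (c.U k)).hom).map (h.app (c.U k)).hom := by
    intro k
    let pr := pullback.fst h i
    have hbot : (Limits.pullback h i).basicOpen (pr.app _ (T k)) = ⊥ := by
      rw [← Scheme.preimage_basicOpen, eq_bot_iff]
      intro p hp
      have hp1 : pr p ∈ Q := hφQ (by rw [← hTloc]; exact (c.pullback h).basicOpen_le_locus T k hp)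
      refine hp1 ⟨pullback.snd h i p, ?_⟩
      rw [← Scheme.Hom.comp_apply, ← pullback.condition, Scheme.Hom.comp_apply]
    have hsub : Subsingleton Γ(Limits.pullback h i, (Limits.pullback h i).basicOpen (pr.app _ (T k))) := by
      rw [hbot]; infer_instance
    obtain ⟨e', he'⟩ := exists_pow_mul_eq_zero (((c.aff k).preimage h).preimage pr)
      (pr.app _ (T k)) 1 (hsub.elim _ _)
    rw [mul_one, ← map_pow] at he'
    exact ⟨e', (ker_fst_app h i (c.aff k)) ▸ (RingHom.mem_ker.mpr he')⟩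
  choose e' he' using hker
  let m := Finset.univ.sup e' + 1
  have hrange : ∀ k, ∃ a, h.app (c.U k) a = (T ^ m) k := fun k => by
    refine hcond _ (c.aff k) _ ?_
    rw [Pi.pow_apply]
    rw [← Nat.sub_add_cancel ((Finset.le_sup (f := e') (Finset.mem_univ k)).trans (Nat.le_succ _) : e' k ≤ m),
      pow_add]
    exact Ideal.mul_mem_left _ _ (he' k)
  obtain ⟨s, hs, hsT⟩ := exists_descend h hinj (hT.pow m) hrange
  have hloc : h ⁻¹ᵁ c.locus s = X1.basicOpen φ := by
    rw [← locus_pb, hsT, hT.locus_pow (Nat.succ_pos _), hTloc]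
  refine ⟨_, s, Nat.mul_pos (by omega) (Nat.succ_pos _), hs, ?_, isAffineOpen_of_preimage h ?_⟩
  · show x1 ∈ h ⁻¹ᵁ c.locus s
    rw [hloc]; exact hφx
  · rw [hloc]; exact haff.basicOpen φ

set_option maxHeartbeats 800000 in
/-- An ampleness section of the closed subscheme has a power with an affine extension. -/
theorem exists_sec_of_mem {A : Type u} [CommRing A] [IsNoetherian X] [X.IsSeparated]
    (f : X ⟶ Spec (CommRingCat.of A)) (h : X1 ⟶ X) [IsFinite h]
    [Surjective h] (hinj : ∀ U : X.Opens, IsAffineOpen U → Function.Injective (h.app U))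
    (i : V ⟶ X) [IsClosedImmersion i] [IsProper (i ≫ f)]
    (hcond : ∀ U : X.Opens, IsAffineOpen U →
      ∀ s ∈ (RingHom.ker (i.app U).hom).map (h.app U).hom, ∃ a, h.app U a = s)
    (H1 : (c.pullback h).Amp) (HV : (c.pullback i).Amp) (v : V) :
    ∃ (n : ℕ) (a : c.Fam), 0 < n ∧ c.IsSec n a ∧ i v ∈ c.locus a ∧
      IsAffineOpen (c.locus a) := by
  classical
  have : X1.IsSeparated := ⟨by rw [← terminal.comp_from h]; infer_instance⟩
  obtain ⟨n, u, hn, hu, hv, -⟩ := HV.2 v
  choose a ha using fun k => i.app_surjective (c.U k) (c.aff k) (u k)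
  let pr := pullback.fst h i
  have hproper : IsProper (pr ≫ h ≫ f) := by
    rw [← Category.assoc, pullback.condition, Category.assoc]
    infer_instance
  let uC : ((c.pullback h).pullback pr).Fam := (c.pullback h).pb pr (c.pb h a)
  have huC : ((c.pullback h).pullback pr).IsSec n uC := by
    intro k l
    have hmem : res inf_le_left (a k) - c.g k l ^ n * res inf_le_right (a l) ∈
        RingHom.ker (i.app (c.U k ⊓ c.U l)).hom := by
      rw [RingHom.mem_ker, map_sub, map_mul, map_pow, app_res, app_res, ha, ha, sub_eq_zero]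
      exact hu k l
    have h0 := Ideal.mem_map_of_mem (h.app (c.U k ⊓ c.U l)).hom hmem
    rw [← ker_fst_app h i ((c.aff k).inf (c.aff l)), RingHom.mem_ker, map_sub, map_mul, map_pow,
      app_res, app_res, map_sub, map_mul, map_pow, app_res, app_res, sub_eq_zero] at h0
    exact h0
  -- finitely many sections upstairs, in a common degree
  choose d t hd ht hmem haff using H1.2
  have : CompactSpace X1 := H1.1
  have : CompactSpace ↥(Limits.pullback h i) := QuasiCompact.compactSpace_of_compactSpace pr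
  let Uc : ↥(Limits.pullback h i) → Set ↥(Limits.pullback h i) := fun p =>
    ((pr ⁻¹ᵁ (c.pullback h).locus (t (pr p)) : (Limits.pullback h i).Opens) : Set _)
  obtain ⟨F, hF⟩ := isCompact_univ.elim_finite_subcover Uc
    (fun p => (pr ⁻¹ᵁ (c.pullback h).locus (t (pr p))).2)
    (fun p _ => Set.mem_iUnion.mpr ⟨p, hmem (pr p)⟩ : Set.univ ⊆ ⋃ p, Uc p)
  let e := Fintype.equivFin F
  let D0 := ∏ p : F, d (pr p.1)
  have hD0 : 0 < D0 := Finset.prod_pos fun p _ => hd _
  let D := n * D0
  let t' : Fin (Fintype.card F) → (c.pullback h).Fam := fun ν =>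
    t (pr (e.symm ν).1) ^ (D / d (pr (e.symm ν).1))
  have hdvd : ∀ ν, d (pr (e.symm ν).1) ∣ D := fun ν =>
    dvd_mul_of_dvd_right (Finset.dvd_prod_of_mem (fun p : F => d (pr p.1)) (Finset.mem_univ _)) n
  have hpos : ∀ ν, 0 < D / d (pr (e.symm ν).1) := fun ν =>
    Nat.div_pos (Nat.le_of_dvd (Nat.mul_pos hn hD0) (hdvd ν)) (hd _)
  have ht' : ∀ ν, ((c.pullback h).power D).IsSec 1 (t' ν) := fun ν =>
    isSec_power_iff.mpr (((ht (pr (e.symm ν).1)).pow _).congr
      (by rw [Nat.mul_div_cancel' (hdvd ν), mul_one]))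
  have hloc : ∀ ν, ((c.pullback h).power D).locus (t' ν) =
      (c.pullback h).locus (t (pr (e.symm ν).1)) := fun ν => (ht _).locus_pow (hpos ν)
  obtain ⟨N, T, hN, hT, hTaff, hTu⟩ : ∃ (N : ℕ) (T : ∀ k, Γ(X1, h ⁻¹ᵁ c.U k)), 0 < N ∧
      (c.pullback h).IsSec (D * N) T ∧ IsAffineOpen ((c.pullback h).locus T) ∧
      ∀ k : Fin c.m, pr.app (h ⁻¹ᵁ c.U k) (T k) =
        pr.app (h ⁻¹ᵁ c.U k) (h.app (c.U k) (a k)) ^ (D0 * N) := by
    obtain ⟨N, T, hN, hT, hTaff, hTu⟩ := exists_lift ((c.pullback h).power D) (h ≫ f) pr t' ht'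
      (fun ν => by rw [hloc]; exact haff _)
      (fun p => by
        obtain ⟨q, hq, hpq⟩ := Set.mem_iUnion₂.mp (hF (Set.mem_univ p))
        refine ⟨e ⟨q, hq⟩, ?_⟩
        rw [hloc, Equiv.symm_apply_apply]
        exact hpq)
      (u := uC ^ D0) ((isSec_pullback_power_iff pr).mpr ((huC.pow D0).congr (mul_one D).symm))
    exact ⟨N, T, hN, isSec_power_iff.mp hT, hTaff, fun k => by
      rw [pow_mul]; exact congrFun hTu k⟩
  have hTk : ∀ k, pr.app _ (T k) = pr.app _ (h.app (c.U k) (a k ^ (D0 * N))) := fun k => by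
    rw [map_pow, map_pow]
    exact hTu k
  have hrange : ∀ k, ∃ b, h.app (c.U k) b = T k := fun k => by
    obtain ⟨b, hb⟩ := hcond _ (c.aff k) (T k - h.app (c.U k) (a k ^ (D0 * N))) (by
      rw [← ker_fst_app h i (c.aff k), RingHom.mem_ker, map_sub, hTk, sub_self])
    exact ⟨b + a k ^ (D0 * N), by rw [map_add, hb, sub_add_cancel]⟩
  obtain ⟨s, hs, hsT⟩ := exists_descend h hinj hT hrange
  refine ⟨_, s, Nat.mul_pos (Nat.mul_pos hn hD0) hN, hs, ?_, isAffineOpen_of_preimage h ?_⟩
  · obtain ⟨k, hk⟩ := c.exists_mem_U (i v)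
    rw [hs.mem_locus_iff hk]
    obtain ⟨x1, hx1⟩ := h.surjective (i v)
    obtain ⟨p, hp⟩ : x1 ∈ Set.range pr := by
      rw [Scheme.Pullback.range_fst]; exact ⟨v, hx1.symm⟩
    have h1 : i v ∈ X.basicOpen (a k) := by
      show v ∈ i ⁻¹ᵁ X.basicOpen (a k)
      rw [Scheme.preimage_basicOpen, ha]
      exact (hu.mem_locus_iff (show v ∈ (c.pullback i).U k from hk)).mp hv
    have h2 : p ∈ pr ⁻¹ᵁ X1.basicOpen (h.app (c.U k) (a k ^ (D0 * N))) := by
      show pr p ∈ X1.basicOpen _
      rw [← Scheme.preimage_basicOpen, hp]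
      show h x1 ∈ X.basicOpen _
      rw [hx1, Scheme.basicOpen_pow _ _ (Nat.mul_pos hD0 hN)]
      exact h1
    rw [Scheme.preimage_basicOpen, ← hTk, ← Scheme.preimage_basicOpen,
      ← congrFun hsT k, pb_apply, ← Scheme.preimage_basicOpen] at h2
    have h3 : h (pr p) ∈ X.basicOpen (s k) := h2
    rwa [hp, hx1] at h3
  · rw [← locus_pb, hsT]
    exact hTaff

/-- Ampleness descends along a finite surjection, given it on a proper closed subscheme carrying
the conductor. -/
theorem amp_descend {A : Type u} [CommRing A] [IsNoetherian X] [X.IsSeparated]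
    (f : X ⟶ Spec (CommRingCat.of A)) (h : X1 ⟶ X) [IsFinite h]
    [Surjective h] (hinj : ∀ U : X.Opens, IsAffineOpen U → Function.Injective (h.app U))
    (i : V ⟶ X) [IsClosedImmersion i] [IsProper (i ≫ f)]
    (hcond : ∀ U : X.Opens, IsAffineOpen U →
      ∀ s ∈ (RingHom.ker (i.app U).hom).map (h.app U).hom, ∃ a, h.app U a = s)
    (H1 : (c.pullback h).Amp) (HV : (c.pullback i).Amp) : c.Amp := by
  refine ⟨inferInstance, fun x => ?_⟩
  by_cases hx : x ∈ Set.range i
  · obtain ⟨v, rfl⟩ := hx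
    exact exists_sec_of_mem f h hinj i hcond H1 HV v
  · exact exists_sec_of_notMem h hinj i hcond H1 hx

end Coc

end Groth.Agent.H46.AmpDesc
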