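import Groth.Agent.H46.AmpDesc.Coord

/-!
# Extending and comparing families of coordinates
-/

set_option autoImplicit false

universe u

open CategoryTheory AlgebraicGeometry Opposite TopologicalSpace

namespace Groth.Agent.H46.AmpDesc

variable {X Y : Scheme.{u}}

/-- A function on an affine open vanishing on a basic open is killed by a power. -/
theorem exists_pow_mul_eq_zero {U : X.Opens} (hU : IsAffineOpen U) (a z : Γ(X, U))
    (h : res (X.basicOpen_le a) z = 0) : ∃ e, a ^ e * z = 0 := by
  let := (res (X.basicOpen_le a)).toAlgebra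
  have : IsLocalization.Away a Γ(X, X.basicOpen a) := hU.isLocalization_basicOpen a
  obtain ⟨⟨_, e, rfl⟩, he⟩ := (IsLocalization.map_eq_zero_iff (Submonoid.powers a)
    Γ(X, X.basicOpen a) z).mp h
  exact ⟨e, he⟩

/-- Functions on a basic open of an affine open are fractions. -/
theorem exists_fraction' {U : X.Opens} (hU : IsAffineOpen U) (a : Γ(X, U))
    (w : Γ(X, X.basicOpen a)) :
    ∃ (e : ℕ) (β : Γ(X, U)), res (X.basicOpen_le a) β = res (X.basicOpen_le a) a ^ e * w := by
  let := (res (X.basicOpen_le a)).toAlgebra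
  have : IsLocalization.Away a Γ(X, X.basicOpen a) := hU.isLocalization_basicOpen a
  obtain ⟨⟨β, _, e, rfl⟩, he⟩ := IsLocalization.surj (Submonoid.powers a) w
  refine ⟨e, β, he.symm.trans ?_⟩
  show w * res _ (a ^ e) = _
  rw [map_pow, mul_comm]

theorem isUnit_res_basicOpen {U : X.Opens} (a : Γ(X, U)) : IsUnit (res (X.basicOpen_le a) a) :=
  RingedSpace.isUnit_res_basicOpen _ _

namespace Coc

variable {c : Coc X}

theorem eq_of_locally {V : X.Opens} {ι : Type*} (O : ι → X.Opens) (hle : ∀ i, O i ≤ V)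
    (hcov : V ≤ iSup O) (s t : Γ(X, V)) (h : ∀ i, res (hle i) s = res (hle i) t) : s = t :=
  TopCat.Sheaf.eq_of_locally_eq' X.sheaf O V (fun i => homOfLE (hle i)) hcov s t h

/-- Quotients of sections of the same degree are functions on the locus. -/
theorem exists_fun {n : ℕ} {a T : c.Fam} (ha : c.IsSec n a) (hT : c.IsSec n T) :
    ∃ φ : Γ(X, c.locus T), ∀ i, res (c.basicOpen_le_locus T i) φ * res (X.basicOpen_le _) (T i) =
      res (X.basicOpen_le (T i)) (a i) := by
  let w : ∀ i, Γ(X, X.basicOpen (T i)) := fun i =>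
    res (X.basicOpen_le (T i)) (a i) * ↑(isUnit_res_basicOpen (T i)).unit⁻¹
  have hw : ∀ i, w i * res (X.basicOpen_le _) (T i) = res (X.basicOpen_le (T i)) (a i) := fun i => by
    simp only [w]
    rw [mul_assoc, IsUnit.val_inv_mul, mul_one]
  obtain ⟨φ, hφ, -⟩ := TopCat.Sheaf.existsUnique_gluing' X.sheaf (fun i => X.basicOpen (T i))
    (c.locus T) (fun i => homOfLE (c.basicOpen_le_locus T i)) le_rfl w (fun i j => by
      show res inf_le_left (w i) = res inf_le_right (w j)
      have hu : IsUnit (res (inf_le_left : X.basicOpen (T i) ⊓ X.basicOpen (T j) ≤ _)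
          (res (X.basicOpen_le _) (T i))) := (isUnit_res_basicOpen (T i)).map _
      refine hu.mul_left_injective ?_
      have hle : X.basicOpen (T i) ⊓ X.basicOpen (T j) ≤ c.U i ⊓ c.U j :=
        inf_le_inf (X.basicOpen_le _) (X.basicOpen_le _)
      dsimp only
      rw [← map_mul, hw, res_res, res_res]
      have h1 := congrArg (res hle) (ha i j)
      have h2 := congrArg (res hle) (hT i j)
      simp only [map_mul, res_res] at h1 h2
      rw [h1, h2, mul_left_comm]
      congr 1
      have h3 := congrArg (res (inf_le_right : X.basicOpen (T i) ⊓ X.basicOpen (T j) ≤ _)) (hw j)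
      simp only [map_mul, res_res] at h3
      exact h3.symm)
  refine ⟨φ, fun i => ?_⟩
  rw [show res (c.basicOpen_le_locus T i) φ = w i from hφ i]
  exact hw i

/-- Compatible functions on a locus extend after multiplication by a power of the section. -/
theorem exists_extend [X.IsSeparated] {d k : ℕ} {t : c.Fam} (ht : c.IsSec d t)
    (w : ∀ i, Γ(X, X.basicOpen (t i)))
    (hw : ∀ i j, res inf_le_left (w i) =
      res (inf_le_inf (X.basicOpen_le _) (X.basicOpen_le _)) (c.g i j ^ k) * res inf_le_right (w j)) :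
    ∃ (e : ℕ) (b : c.Fam), c.IsSec (k + d * e) b ∧
      ∀ i, res (X.basicOpen_le _) (b i) = res (X.basicOpen_le _) (t i) ^ e * w i := by
  classical
  choose e₁ β₁ hβ₁ using fun i => exists_fraction' (c.aff i) (t i) (w i)
  let e₀ := Finset.univ.sup e₁
  let β : c.Fam := fun i => t i ^ (e₀ - e₁ i) * β₁ i
  have hβ : ∀ i, res (X.basicOpen_le _) (β i) = res (X.basicOpen_le _) (t i) ^ e₀ * w i := fun i => by
    simp only [β, map_mul, map_pow, hβ₁ i, ← mul_assoc, ← pow_add]
    rw [Nat.sub_add_cancel (Finset.le_sup (f := e₁) (Finset.mem_univ i))]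
  have hz : ∀ i j, ∃ e, res inf_le_left (t i) ^ e *
      (res inf_le_left (β i) - c.g i j ^ (k + d * e₀) * res inf_le_right (β j)) = 0 := by
    intro i j
    refine exists_pow_mul_eq_zero ((c.aff i).inf (c.aff j)) _ _ ?_
    set O := X.basicOpen (res (inf_le_left : c.U i ⊓ c.U j ≤ _) (t i)) with hO
    have hOi : O ≤ X.basicOpen (t i) := by
      rw [hO, Scheme.basicOpen_res]; exact inf_le_right
    have hOj : O ≤ X.basicOpen (t j) := by
      rw [hO, ht i j, Scheme.basicOpen_mul, Scheme.basicOpen_res]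
      exact inf_le_right.trans inf_le_right
    have hOUV : O ≤ c.U i ⊓ c.U j := X.basicOpen_le _
    have h1 := congrArg (res hOi) (hβ i)
    have h2 := congrArg (res hOj) (hβ j)
    have h3 := congrArg (res (le_inf hOi hOj)) (hw i j)
    have h4 := congrArg (res hOUV) (ht i j)
    simp only [map_mul, map_pow, res_res] at h1 h2 h3 h4
    simp only [map_sub, map_mul, map_pow, res_res]
    rw [h1, h2, h3, h4, sub_eq_zero]
    ring
  choose e₂ he₂ using hz
  let e' := Finset.univ.sup fun ij : Fin c.m × Fin c.m => e₂ ij.1 ij.2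
  refine ⟨e' + e₀, fun i => t i ^ e' * β i, fun i j => ?_, fun i => ?_⟩
  · have h0 : res inf_le_left (t i) ^ e' *
        (res inf_le_left (β i) - c.g i j ^ (k + d * e₀) * res inf_le_right (β j)) = 0 := by
      have hle : e₂ i j ≤ e' :=
        Finset.le_sup (f := fun ij : Fin c.m × Fin c.m => e₂ ij.1 ij.2) (Finset.mem_univ (i, j))
      rw [← Nat.sub_add_cancel hle, pow_add, mul_assoc, he₂ i j, mul_zero]
    rw [mul_sub, sub_eq_zero] at h0
    simp only [map_mul, map_pow]
    rw [h0, ht i j]
    ring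
  · simp only [map_mul, map_pow, hβ i]
    ring

/-- Families agreeing on a locus agree after multiplication by a power of the section. -/
theorem exists_pow_eq (t a b : c.Fam)
    (h : ∀ i, res (X.basicOpen_le (t i)) (a i) = res (X.basicOpen_le _) (b i)) :
    ∃ e, ∀ e', e ≤ e' → t ^ e' * a = t ^ e' * b := by
  choose e he using fun i => exists_pow_mul_eq_zero (c.aff i) (t i) (a i - b i)
    (by rw [map_sub, h i, sub_self])
  refine ⟨Finset.univ.sup e, fun e' he' => funext fun i => ?_⟩
  rw [Pi.mul_apply, Pi.mul_apply, Pi.pow_apply, ← sub_eq_zero, ← mul_sub,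
    ← Nat.sub_add_cancel ((Finset.le_sup (Finset.mem_univ i)).trans he'), pow_add, mul_assoc, he i,
    mul_zero]

/-- A section is invertible on its locus; a sum of multiples of sections with affine loci has affine
locus. -/
theorem isAffineOpen_locus_sum [X.IsSeparated] {ι : Type} [Fintype ι] {n d : ℕ} (a t : ι → c.Fam)
    (ha : ∀ ν, c.IsSec n (a ν)) (ht : ∀ ν, c.IsSec d (t ν))
    (haff : ∀ ν, IsAffineOpen (c.locus (t ν))) :
    IsAffineOpen (c.locus (∑ ν, a ν * t ν)) := by
  set T := ∑ ν, a ν * t ν with hTdef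
  have hT : c.IsSec (n + d) T := IsSec.sum _ _ fun ν _ => (ha ν).mul (ht ν)
  choose φ hφ using fun ν => exists_fun ((ha ν).mul (ht ν)) hT
  refine isAffineOpen_of_isAffineOpen_basicOpen (c.locus T) (Set.range φ) ?_ ?_
  · rw [Ideal.eq_top_iff_one]
    suffices h : (1 : Γ(X, c.locus T)) = ∑ ν, φ ν by
      rw [h]; exact Ideal.sum_mem _ fun ν _ => Ideal.subset_span ⟨ν, rfl⟩
    refine eq_of_locally (fun i => X.basicOpen (T i)) (c.basicOpen_le_locus T) le_rfl _ _ fun i => ?_
    refine (isUnit_res_basicOpen (T i)).mul_left_injective ?_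
    dsimp only
    rw [map_one, one_mul, map_sum, Finset.sum_mul, Finset.sum_congr rfl fun ν _ => hφ ν i,
      ← map_sum, hTdef, Finset.sum_apply]
  · rintro _ ⟨ν, rfl⟩
    have he : X.basicOpen (φ ν) = c.locus (a ν) ⊓ (c.locus T ⊓ c.locus (t ν)) := by
      ext x
      constructor
      · intro hx
        obtain ⟨i, hi⟩ := Opens.mem_iSup.mp (X.basicOpen_le _ hx : x ∈ c.locus T)
        have h1 : x ∈ X.basicOpen (res (c.basicOpen_le_locus T i) (φ ν) *
            res (X.basicOpen_le _) (T i)) := by
          rw [Scheme.basicOpen_mul, Scheme.basicOpen_res, Scheme.basicOpen_res]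
          exact ⟨⟨hi, hx⟩, hi, hi⟩
        rw [hφ ν i, Scheme.basicOpen_res] at h1
        have h2 : x ∈ c.locus (a ν * t ν) := c.basicOpen_le_locus _ i h1.2
        rw [(ha ν).locus_mul (ht ν)] at h2
        exact ⟨h2.1, X.basicOpen_le _ hx, h2.2⟩
      · rintro ⟨hxa, hxT, hxt⟩
        obtain ⟨i, hi⟩ := Opens.mem_iSup.mp hxT
        have hxU := X.basicOpen_le _ hi
        have h2 : x ∈ c.locus (a ν * t ν) := by rw [(ha ν).locus_mul (ht ν)]; exact ⟨hxa, hxt⟩
        have h1 : x ∈ X.basicOpen (res (X.basicOpen_le (T i)) ((a ν * t ν) i)) := by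
          rw [Scheme.basicOpen_res]
          exact ⟨hi, (((ha ν).mul (ht ν)).mem_locus_iff hxU).mp h2⟩
        rw [← hφ ν i, Scheme.basicOpen_mul, Scheme.basicOpen_res] at h1
        exact h1.1.2
    rw [he]
    exact (ha ν).isAffineOpen_locus_inf (hT.isAffineOpen_locus_inf (haff ν))

end Coc

end Groth.Agent.H46.AmpDesc
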