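import Groth.Agent.H81.PushLocFree
import Groth.Agent.Lib.TensorMod.LocFree
import Groth.Agent.Lib.ExchangeFP29.Sheaf
import Groth.Agent.Lib.AmpleThick.Basic
import Groth.Prelude.Def_LCI2
import Mathlib.AlgebraicGeometry.Morphisms.Finite
import Mathlib.RingTheory.IntegralClosure.IntegrallyClosed

/-!
# Normal or flat points
-/

set_option autoImplicit false

universe u

open CategoryTheory CategoryTheory.Limits AlgebraicGeometry Opposite TopologicalSpace
open Groth.Agent.Lib

namespace Groth.Agent.H46.AmpDesc.Flatness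

variable {X X' P P' : Scheme.{u}}

/-- The stalk is an integrally closed domain, or `g` is flat over a neighbourhood. -/
def Reg (g : X' ⟶ X) (x : X) : Prop :=
  (IsDomain (X.presheaf.stalk x) ∧ IsIntegrallyClosed (X.presheaf.stalk x)) ∨
    ∃ T : X.Opens, x ∈ T ∧ Flat (g ∣_ T)

/-- Flatness over an open passes to base changes factoring through it. -/
theorem flat_of_isPullback {g : X' ⟶ X} {k : P ⟶ X} {g' : P' ⟶ P} {k' : P' ⟶ X'}
    (H : IsPullback k' g' g k) (T : X.Opens) [Flat (g ∣_ T)] (hk : Set.range k ⊆ T) : Flat g' := by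
  have hk' : Set.range k' ⊆ (g ⁻¹ᵁ T : X'.Opens) := by
    rintro _ ⟨p, rfl⟩
    exact hk ⟨g' p, by rw [← Scheme.Hom.comp_apply, ← H.w, Scheme.Hom.comp_apply]⟩
  let l := IsOpenImmersion.lift T.ι k (by rwa [Scheme.Opens.range_ι])
  let l' := IsOpenImmersion.lift (g ⁻¹ᵁ T).ι k' (by rwa [Scheme.Opens.range_ι])
  have hl : l ≫ T.ι = k := IsOpenImmersion.lift_fac _ _ _
  have hl' : l' ≫ (g ⁻¹ᵁ T).ι = k' := IsOpenImmersion.lift_fac _ _ _
  have hsq : IsPullback l' g' (g ∣_ T) l := by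
    refine IsPullback.of_right ?_ ?_ (isPullback_morphismRestrict g T).flip
    · rw [hl, hl']; exact H
    · rw [← cancel_mono T.ι, Category.assoc, morphismRestrict_ι, ← Category.assoc, hl', H.w,
        Category.assoc, hl]
  exact MorphismProperty.of_isPullback hsq ‹Flat (g ∣_ T)›

/-- Flatness over a neighbourhood passes to base changes. -/
theorem exists_flat_of_isPullback {g : X' ⟶ X} {k : P ⟶ X} {g' : P' ⟶ P} {k' : P' ⟶ X'}
    (H : IsPullback k' g' g k) {p : P} (h : ∃ T : X.Opens, k p ∈ T ∧ Flat (g ∣_ T)) :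
    ∃ T : P.Opens, p ∈ T ∧ Flat (g' ∣_ T) := by
  obtain ⟨T, hT, hf⟩ := h
  refine ⟨k ⁻¹ᵁ T, hT, flat_of_isPullback (g := g) (k := (k ⁻¹ᵁ T).ι ≫ k)
    (k' := (g' ⁻¹ᵁ k ⁻¹ᵁ T).ι ≫ k') ((isPullback_morphismRestrict g' (k ⁻¹ᵁ T)).flip.paste_horiz H) T ?_⟩
  rintro _ ⟨z, rfl⟩
  exact z.2

/-- A free stalk of the direct image gives flatness near the point. -/
theorem exists_flat_of_free [IsLocallyNoetherian X] (g : X' ⟶ X) [IsFinite g] {x : X}
    [Module.Free (X.presheaf.stalk x)
      (((Coh.push g).obj (Coh.structureModule X')).presheaf.stalk x)] :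
    ∃ T : X.Opens, x ∈ T ∧ Flat (g ∣_ T) := by
  have := TensorMod.QCohInv.isQCoh_structureModule X'
  have := QCoh.Pushforward.isQCoh_pushforward g (M := Coh.structureModule X')
  obtain ⟨V, hV, hx, -⟩ := exists_isAffineOpen_mem_and_subset (Opens.mem_top x)
  let _ := (g.app V).hom.toAlgebra
  have : IsNoetherianRing Γ(X, V) := IsLocallyNoetherian.component_noetherian ⟨V, hV⟩
  have : Module.Finite Γ(X, V) Γ(X', g ⁻¹ᵁ V) := IsFinite.finite_app g V hV
  let M := H81.PushLocFree.push g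
  have : Module.Finite Γ(X, V) Γ(M, V) := Module.Finite.equiv (H81.PushLocFree.sectionsEquiv g V)
  have : Module.FinitePresentation Γ(X, V) Γ(M, V) := Module.finitePresentation_of_finite _ _
  let _ := StalkLoc.Basic.moduleSections M hx
  let _ := TopCat.Presheaf.algebra_section_stalk X.presheaf (⟨x, hx⟩ : V)
  have := StalkLoc.Basic.isScalarTower_sections M hx
  have := hV.isLocalization_stalk ⟨x, hx⟩
  have := StalkLoc.Basic.isLocalizedModule_germ (M := M) hV hx
  have : Module.Finite (X.presheaf.stalk x) (M.presheaf.stalk x) :=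
    Module.Finite.of_isLocalizedModule (hV.primeIdealOf ⟨x, hx⟩).asIdeal.primeCompl
      (StalkLoc.Basic.germₗ M hx)
  have : Module.Free (X.presheaf.stalk x) (M.presheaf.stalk x) := ‹_›
  obtain ⟨W, n, hxW, ⟨i⟩⟩ := TensorMod.FPCrit.exists_free_nhd (M := M) hV hx
  obtain ⟨V', hV', hxV', hle⟩ := exists_isAffineOpen_mem_and_subset hxW
  refine ⟨V', hxV', ?_⟩
  obtain ⟨b⟩ := H81.PushLocFree.nonempty_basis (f := g) (show V' ≤ W from hle) i
  let _ := (g.app V').hom.toAlgebra
  have := Module.Free.of_basis b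
  rw [H81.PushLocFree.restrict_iff @Flat g hV', Flat.SpecMap_iff]
  exact inferInstanceAs (Module.Flat Γ(X, V') Γ(X', g ⁻¹ᵁ V'))

/-- Flatness near a point gives local freeness of the direct image near it. -/
theorem exists_isFinLocFree_restrict [IsLocallyNoetherian X] (g : X' ⟶ X) [IsFinite g] (W : X.Opens)
    {x : X} (hxW : x ∈ W) (h : ∃ T : X.Opens, x ∈ T ∧ Flat (g ∣_ T)) :
    ∃ T : X.Opens, x ∈ T ∧ T ≤ W ∧
      FlatMod.IsFinLocFree (((Coh.push g).obj (Coh.structureModule X')).restrict T.ι) := by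
  obtain ⟨T, hxT, hT⟩ := h
  have := TensorMod.QCohInv.isQCoh_structureModule X'
  have := QCoh.Pushforward.isQCoh_pushforward g (M := Coh.structureModule X')
  refine ⟨T ⊓ W, ⟨hxT, hxW⟩, inf_le_right, ExchangeFP29.Sheaf.isFinLocFree_restrict _ _ fun y hy => ?_⟩
  obtain ⟨V, hV, hyV, hVT⟩ := exists_isAffineOpen_mem_and_subset hy
  let _ := (g.app V).hom.toAlgebra
  have : IsNoetherianRing Γ(X, V) := IsLocallyNoetherian.component_noetherian ⟨V, hV⟩
  have hf : Flat (g ∣_ V) := flat_of_isPullback (isPullback_morphismRestrict g V).flip T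
    (by rw [Scheme.Opens.range_ι]; exact fun z hz => (hVT hz).1)
  rw [H81.PushLocFree.restrict_iff @Flat g hV, Flat.SpecMap_iff] at hf
  have : Module.Flat Γ(X, V) Γ(X', g ⁻¹ᵁ V) := hf
  have : Module.Finite Γ(X, V) Γ(X', g ⁻¹ᵁ V) := IsFinite.finite_app g V hV
  have : Module.FinitePresentation Γ(X, V) Γ(X', g ⁻¹ᵁ V) := Module.finitePresentation_of_finite _ _
  have : Module.Projective Γ(X, V) Γ(X', g ⁻¹ᵁ V) := Module.Flat.projective_of_finitePresentation
  let M := H81.PushLocFree.push g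
  have : Module.Finite Γ(X, V) Γ(M, V) := Module.Finite.equiv (H81.PushLocFree.sectionsEquiv g V)
  have : Module.Projective Γ(X, V) Γ(M, V) := Module.Projective.of_equiv (H81.PushLocFree.sectionsEquiv g V)
  obtain ⟨O, n, hyO, ⟨i⟩⟩ := H81.PushLocFree.exists_free_nhd_of_projective (M := M) hV hyV
  exact ⟨O, hyO, fun z => ⟨⊤, n, trivial, ⟨(Scheme.Modules.restrictFunctor (⊤ : Scheme.Opens _).ι).mapIso i ≪≫
    TensorMod.LocFree.restrictFreeModIso _ n⟩⟩⟩

/-- A thickening does not change the stalk at a point with a domain as stalk. -/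
theorem isIso_stalkMap_of_isDomain (i : P ⟶ X) [IsClosedImmersion i] [Surjective i] (p : P)
    [IsDomain (X.presheaf.stalk (i p))] : IsIso (i.stalkMap p) := by
  refine (ConcreteCategory.isIso_iff_bijective _).2 ⟨(injective_iff_map_eq_zero _).2 fun a ha => ?_,
    i.stalkMap_surjective p⟩
  obtain ⟨U, hU, z, rfl⟩ := X.presheaf.exists_germ_eq a
  rw [Scheme.Hom.germ_stalkMap_apply] at ha
  obtain ⟨O, hpO, i1, i2, heq⟩ := P.presheaf.germ_eq p (U := i ⁻¹ᵁ U) (V := i ⁻¹ᵁ U) hU hU
    (i.app U z) 0 (by rw [ha, map_zero])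
  obtain ⟨O', hO', hO''⟩ := i.isEmbedding.isInducing.isOpen_iff.mp O.2
  obtain ⟨V, hV, hpV, hVle⟩ := exists_isAffineOpen_mem_and_subset (U := U ⊓ ⟨O', hO'⟩)
    (x := i p) ⟨hU, (Set.ext_iff.mp hO'' p).mpr hpO⟩
  have hVU : V ≤ U := fun w hw => (hVle hw).1
  have hPO : i ⁻¹ᵁ V ≤ O := fun w hw => (Set.ext_iff.mp hO'' w).mp (hVle hw).2
  have h0 : i.app V (X.presheaf.map (homOfLE hVU).op z) = 0 := by
    have h1 : i.app V (X.presheaf.map (homOfLE hVU).op z) =
        P.presheaf.map ((homOfLE hPO) ≫ i1).op (i.app U z) :=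
      congr($(i.naturality (homOfLE hVU).op) z)
    rw [h1, op_comp, Functor.map_comp, CategoryTheory.comp_apply, heq, map_zero, map_zero]
  have hnil := (AmpleThick.Basic.isNilpotent_of_app_eq_zero i hV _ h0).map
    (X.presheaf.germ V (i p) hpV).hom
  rw [TopCat.Presheaf.germ_res_apply] at hnil
  exact hnil.eq_zero

/-- The regularity hypothesis passes to base changes by open immersions and thickenings. -/
theorem reg_of_isPullback {g : X' ⟶ X} {k : P ⟶ X} {g' : P' ⟶ P} {k' : P' ⟶ X'}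
    (H : IsPullback k' g' g k) {p : P}
    (hk : IsDomain (X.presheaf.stalk (k p)) → IsIso (k.stalkMap p)) (h : Reg g (k p)) : Reg g' p := by
  rcases h with ⟨hd, hic⟩ | h
  · have := hk hd
    let e : X.presheaf.stalk (k p) ≃+* P.presheaf.stalk p := (asIso (k.stalkMap p)).commRingCatIsoToRingEquiv
    exact Or.inl ⟨e.symm.toMulEquiv.isDomain, IsIntegrallyClosed.of_equiv e⟩
  · exact Or.inr (exists_flat_of_isPullback H h)

end Groth.Agent.H46.AmpDesc.Flatness
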