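import Groth.Agent.H46.AmpDesc.Relation
import Mathlib.AlgebraicGeometry.Morphisms.ClosedImmersion

/-!
# Lifting sections from a proper closed subscheme
-/

set_option autoImplicit false

universe u

open CategoryTheory CategoryTheory.Limits AlgebraicGeometry Opposite TopologicalSpace

namespace Groth.Agent.H46.AmpDesc

variable {X C : Scheme.{u}} {A : Type u} [CommRing A]

theorem pb_const (c : Coc X) (j : C ⟶ X) [IsAffineHom j] (f : X ⟶ Spec (CommRingCat.of A)) (s : A) :
    c.pb j (c.const (scal f s)) = (c.pullback j).const (scal (j ≫ f) s) := by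
  funext i
  rw [Coc.pb_apply]
  show j.app (c.U i) (res le_top (scal f s)) = res le_top (scal (j ≫ f) s)
  rw [app_res]
  rfl

/-- A section on a closed subscheme times a high power of a section with affine locus lifts. -/
theorem exists_lift_single [X.IsSeparated] (c : Coc X) (j : C ⟶ X) [IsClosedImmersion j] {d k : ℕ}
    {t : c.Fam} (ht : c.IsSec d t) (haff : IsAffineOpen (c.locus t)) {v : (c.pullback j).Fam}
    (hv : (c.pullback j).IsSec (d * k) v) :
    ∃ e₀, ∀ e, e₀ ≤ e → ∃ a : c.Fam, c.IsSec (d * k + d * e) a ∧ c.pb j a = c.pb j t ^ e * v := by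
  classical
  obtain ⟨φ, hφ⟩ := Coc.exists_fun hv ((ht.pullback j).pow k)
  let O := c.locus t
  have hO : j ⁻¹ᵁ O ≤ (c.pullback j).locus (c.pb j t ^ k) := by
    rcases Nat.eq_zero_or_pos k with rfl | hk
    · intro z _
      obtain ⟨i, hi⟩ := (c.pullback j).exists_mem_U z
      refine Coc.basicOpen_le_locus _ i ?_
      show z ∈ C.basicOpen ((c.pb j t i) ^ 0)
      rw [pow_zero, Scheme.basicOpen_of_isUnit _ isUnit_one]
      exact hi
    · rw [Coc.IsSec.locus_pow (ht.pullback j) hk, Coc.locus_pb]
  obtain ⟨φ', hφ'⟩ := j.app_surjective O haff (res hO φ)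
  let w : ∀ i, Γ(X, X.basicOpen (t i)) := fun i =>
    res (c.basicOpen_le_locus t i) φ' * res (X.basicOpen_le _) (t i) ^ k
  obtain ⟨e₁, b, hb, hbeq⟩ := Coc.exists_extend ht w (k := d * k) fun i i' => by
    have hle : X.basicOpen (t i) ⊓ X.basicOpen (t i') ≤ c.U i ⊓ c.U i' :=
      inf_le_inf (X.basicOpen_le _) (X.basicOpen_le _)
    have h1 := congrArg (res hle) ((ht.pow k) i i')
    simp only [map_mul, map_pow, res_res, w, Pi.pow_apply] at h1 ⊢
    rw [h1]
    ring
  obtain ⟨e₂, he₂⟩ := Coc.exists_pow_eq (c := c.pullback j) (c.pb j t) (c.pb j b)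
    (c.pb j t ^ e₁ * v) fun i => by
    have hpre : C.basicOpen (c.pb j t i) = j ⁻¹ᵁ X.basicOpen (t i) :=
      (Scheme.preimage_basicOpen j (t i)).symm
    have h1 := congrArg (fun a => res hpre.le (j.app _ a)) (hbeq i)
    simp only [map_mul, map_pow, app_res, res_res, w] at h1
    simp only [Pi.mul_apply, Pi.pow_apply, map_mul, map_pow, Coc.pb_apply]
    refine h1.trans ?_
    refine Eq.trans ?_ (map_mul (res (C.basicOpen_le (j.app (c.U i) (t i)))) _ _).symm
    refine congrArg₂ (· * ·) (map_pow _ _ _).symm ?_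
    rw [hφ', res_res]
    have hle : C.basicOpen (c.pb j t i) ≤ C.basicOpen ((c.pb j t ^ k) i) := by
      rcases Nat.eq_zero_or_pos k with rfl | hk
      · rw [pow_zero]
        exact (C.basicOpen_le _).trans (by rw [Pi.one_apply, Scheme.basicOpen_of_isUnit _ isUnit_one])
      · rw [Pi.pow_apply, Scheme.basicOpen_pow _ _ hk]
    have h2 := congrArg (res hle) (hφ i)
    exact ((map_mul (res hle) _ _).trans (congrArg₂ (· * ·) (res_res _ _ _)
      ((res_res _ _ _).trans (map_pow _ (c.pb j t i) k)))).symm.trans (h2.trans (res_res _ _ _))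
  refine ⟨e₁ + e₂, fun e he => ⟨t ^ (e - e₁) * b, ?_, ?_⟩⟩
  · refine ((ht.pow (e - e₁)).mul hb).congr ?_
    have := Nat.mul_add d (e - e₁) e₁
    rw [Nat.sub_add_cancel (by omega : e₁ ≤ e)] at this
    omega
  · rw [map_mul, map_pow, he₂ _ (by omega), ← mul_assoc, ← pow_add, Nat.sub_add_cancel (by omega)]

set_option maxHeartbeats 800000 in
/-- Powers of a section on a proper closed subscheme lift to sections with affine locus. -/
theorem exists_lift [X.IsSeparated] (c : Coc X) (f : X ⟶ Spec (CommRingCat.of A)) (j : C ⟶ X)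
    [IsClosedImmersion j] [IsProper (j ≫ f)] {r : ℕ} (t : Fin r → c.Fam) (ht : ∀ ν, c.IsSec 1 (t ν))
    (haff : ∀ ν, IsAffineOpen (c.locus (t ν))) (hcov : ∀ x : C, ∃ ν, j x ∈ c.locus (t ν))
    {u : (c.pullback j).Fam} (hu : (c.pullback j).IsSec 1 u) :
    ∃ (N : ℕ) (T : c.Fam), 0 < N ∧ c.IsSec N T ∧ IsAffineOpen (c.locus T) ∧ c.pb j T = u ^ N := by
  classical
  let cC := c.pullback j
  let tC : Fin r → cC.Fam := fun ν => c.pb j (t ν)
  have htC : ∀ ν, cC.IsSec 1 (tC ν) := fun ν => (ht ν).pullback j
  obtain ⟨N, hN⟩ := exists_relation cC (j ≫ f) htC hu fun x => by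
    obtain ⟨ν, hν⟩ := hcov x
    exact ⟨ν, by rw [Coc.locus_pb]; exact hν⟩
  -- reduce the exponent of `u`
  have hred : ∀ (E n : ℕ) (k : ℕ) (s : A) (α : Fin r → ℕ), (∑ ν, α ν) + k = n → E ≤ ∑ ν, α ν →
      cC.const (scal (j ≫ f) s) * mon cC tC α * u ^ k ∈
        AddSubmonoid.closure (Terms cC (j ≫ f) tC u n E N) := by
    intro E n k
    induction k using Nat.strong_induction_on with
    | _ k ih =>
      intro s α hdeg hE
      by_cases hk : k < N
      · exact AddSubmonoid.subset_closure ⟨s, α, k, hdeg, hE, hk, rfl⟩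
      rw [show k = (k - N) + N by omega, pow_add, ← mul_assoc]
      refine AddSubmonoid.closure_induction
        (motive := fun F _ => cC.const (scal (j ≫ f) s) * mon cC tC α * u ^ (k - N) * F ∈
          AddSubmonoid.closure (Terms cC (j ≫ f) tC u n E N)) ?_ ?_ ?_ hN
      · rintro _ ⟨s', β, k', hd', hE', hk', rfl⟩
        have h := ih (k - N + k') (by omega) (s * s') (α + β)
          (by simp only [Pi.add_apply, Finset.sum_add_distrib]; omega)
          (by simp only [Pi.add_apply, Finset.sum_add_distrib]; omega)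
        convert h using 1
        rw [mon_add, map_mul, map_mul, pow_add]
        ring
      · rw [mul_zero]; exact zero_mem _
      · intro a b _ _ ha hb
        rw [mul_add]; exact add_mem ha hb
  choose e₀ he₀ using fun (p : Fin r × Fin N) => exists_lift_single c j (k := 1 + (p.2 : ℕ)) (ht p.1)
    (haff p.1) (v := tC p.1 * u ^ (p.2 : ℕ)) (((htC p.1).mul (hu.pow _)).congr (by omega))
  let e := Finset.univ.sup e₀
  let E := r * (e + 2) + 1
  let n := E + N
  have h1 : u ^ n ∈ AddSubmonoid.closure (Terms cC (j ≫ f) tC u n E N) := by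
    -- `u ^ n = u ^ n * 1`, raised to degree `E` in the `t`
    have key : ∀ E', ∀ m, E' + N ≤ m →
        u ^ m ∈ AddSubmonoid.closure (Terms cC (j ≫ f) tC u m E' N) := by
      intro E'
      induction E' with
      | zero =>
        intro m hm
        have h := hred 0 m m 1 0 (by simp) (Nat.zero_le _)
        simpa [mon] using h
      | succ E' ih =>
        intro m hm
        refine AddSubmonoid.closure_induction
          (motive := fun F _ => F ∈ AddSubmonoid.closure (Terms cC (j ≫ f) tC u m (E' + 1) N))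
          ?_ (zero_mem _) (fun a b _ _ ha hb => add_mem ha hb) (ih m (by omega))
        rintro _ ⟨s, α, k, hd, hE', hk, rfl⟩
        exact hred (E' + 1) m k s α hd (by omega)
    exact key E n le_rfl
  -- the lift
  have hgood : ∀ F ∈ AddSubmonoid.closure (Terms cC (j ≫ f) tC u n E N),
      ∃ a : Fin r → c.Fam, (∀ ν, c.IsSec (n - 1) (a ν)) ∧ c.pb j (∑ ν, a ν * t ν) = F := by
    intro F hF
    induction hF using AddSubmonoid.closure_induction with
    | zero => exact ⟨0, fun ν => Coc.IsSec.zero, by simp⟩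
    | add F G _ _ hF hG =>
      obtain ⟨a, ha, rfl⟩ := hF
      obtain ⟨b, hb, rfl⟩ := hG
      refine ⟨a + b, fun ν => (ha ν).add (hb ν), ?_⟩
      rw [← map_add, ← Finset.sum_add_distrib]
      congr 1
      exact Finset.sum_congr rfl fun ν _ => add_mul _ _ _
    | mem F hF =>
      obtain ⟨s, α, k, hd, hE, hk, rfl⟩ := hF
      obtain ⟨ν, hν⟩ : ∃ ν, e + 2 ≤ α ν := by
        by_contra hc
        push Not at hc
        have : ∑ ν, α ν ≤ ∑ _ν : Fin r, (e + 2) := Finset.sum_le_sum fun ν _ => (hc ν).le
        rw [Finset.sum_const, Finset.card_univ, Fintype.card_fin, smul_eq_mul] at this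
        omega
      obtain ⟨a, ha, hpa⟩ := he₀ (ν, ⟨k, hk⟩) (α ν - 2)
        ((Finset.le_sup (f := e₀) (Finset.mem_univ _)).trans (by omega))
      let β := α - Pi.single ν (α ν)
      have hβ : α = β + Pi.single ν (α ν) := by
        funext μ
        by_cases h : μ = ν
        · subst h; simp [β]
        · simp [β, Pi.single_eq_of_ne h]
      have hsum : ∑ μ, α μ = (∑ μ, β μ) + α ν := by
        conv_lhs => rw [hβ]
        simp [Finset.sum_add_distrib]
      refine ⟨fun μ => if μ = ν then c.const (scal f s) * mon c t β * a else 0, fun μ => ?_, ?_⟩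
      · dsimp only
        by_cases h : μ = ν
        · rw [if_pos h]
          exact (((Coc.IsSec.const _).mul (isSec_mon c ht β)).mul ha).congr (by simp only at *; omega)
        · rw [if_neg h]; exact Coc.IsSec.zero
      · simp only [ite_mul, zero_mul, Finset.sum_ite_eq', Finset.mem_univ, if_true, map_mul]
        rw [pb_const, hpa]
        conv_rhs => rw [hβ, mon_add, mon_single,
          show α ν = (α ν - 2) + 2 by omega, pow_add]
        have hm : c.pb j (mon c t β) = mon cC tC β := by
          simp only [mon, map_prod, map_pow]; rfl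
        rw [hm]
        simp only [tC, cC]
        ring
  obtain ⟨a, ha, hp⟩ := hgood _ h1
  refine ⟨n, ∑ ν, a ν * t ν, by omega,
    Coc.IsSec.sum _ _ fun ν _ => ((ha ν).mul (ht ν)).congr (by omega),
    Coc.isAffineOpen_locus_sum a t ha ht haff, hp⟩

end Groth.Agent.H46.AmpDesc
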