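import Groth.Agent.H46.AmpDesc.Bridge
import Groth.Agent.H46.AmpDesc.Cond
import Groth.Agent.H46.AmpDesc.Flatness
import Groth.Agent.S3599
import Groth.Agent.S9691
import Groth.Agent.S0052
import Groth.Agent.Lib.ZarCoh.ProperOver
import Groth.Agent.Lib.GrpdQuot.Separation
import Groth.Agent.Lib.Ample.RelAmple

/-!
# Ampleness descends along finite surjections off a proper closed subset
-/

set_option autoImplicit false

universe u

open CategoryTheory CategoryTheory.Limits AlgebraicGeometry Opposite TopologicalSpace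
open Groth.Agent.Lib

namespace Groth.Agent.H46.AmpDesc.Main

open Flatness

variable {X X' : Scheme.{u}}

theorem isAmple_pb_of_sq {P P' : Scheme.{u}} {g : X' ⟶ X} {k : P ⟶ X} {g' : P' ⟶ P} {k' : P' ⟶ X'}
    (w : k' ≫ g = g' ≫ k) [IsAffineHom k'] {L : X.Modules}
    (hA : CohB1.IsAmple ((Scheme.Modules.pullback g).obj L)) :
    CohB1.IsAmple ((Scheme.Modules.pullback g').obj ((Scheme.Modules.pullback k).obj L)) :=
  Ample.Pow.isAmple_of_iso
    ((Scheme.Modules.pullbackComp k' g).app L ≪≫ (Scheme.Modules.pullbackCongr w).app L ≪≫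
      ((Scheme.Modules.pullbackComp g' k).app L).symm)
    (Ample.Pullback.isAmple_pullback k' (Ample.Pullback.isQuasiAffine_of_isAffineHom k') hA)

set_option maxHeartbeats 800000 in
/-- The reduced case over an affine base. -/
theorem isAmple_of_reduced {A : Type u} [CommRing A] [IsNoetherianRing A]
    (f : X ⟶ Spec (CommRingCat.of A)) [LocallyOfFiniteType f] [QuasiCompact f] [IsReduced X]
    (g : X' ⟶ X) [IsFinite g] [Surjective g] {L : X.Modules} (hL : PicF.IsInvertible L)
    {Z : Set X} (hZ : ClSub.IsProperOver f Z) (hreg : ∀ x, x ∉ Z → Reg g x)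
    (hA : CohB1.IsAmple ((Scheme.Modules.pullback g).obj L)) : CohB1.IsAmple L := by
  have : IsLocallyNoetherian X := LocallyOfFiniteType.isLocallyNoetherian f
  have : CompactSpace X := QuasiCompact.compactSpace_of_compactSpace f
  have : IsNoetherian X := {}
  obtain ⟨hZc, -⟩ := id hZ
  let W : X.Opens := ⟨Zᶜ, hZc.isOpen_compl⟩
  obtain ⟨X1, -, h, hfin, hisoW, ⟨V, hVd, -, hisoV⟩, hdesc⟩ :=
    Groth.Agent.S3599.result f g W fun x hx => (hreg x hx).imp id
      fun H => exists_isFinLocFree_restrict g W hx H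
  have hA1r := hdesc L hL ((Ample.RelAmple.isRelAmple_iff_isAmple (g ≫ f)).2 hA)
  have := hfin
  have := hisoV
  have := hisoW
  have : Surjective h := surjective_of_isIso_dense h V hVd
  have : IsSeparated (h ≫ f) := Groth.Agent.S9691.result _ _ hA1r
  have : IsSeparated f := GrpdQuot.isSeparated_of_finite_surjective h f
  have : X.IsSeparated := ⟨by rw [← terminal.comp_from f]; infer_instance⟩
  have hA1 : CohB1.IsAmple ((Scheme.Modules.pullback h).obj L) :=
    (Ample.RelAmple.isRelAmple_iff_isAmple (h ≫ f)).1 hA1r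
  -- the thickened closed subset carrying the conductor
  let I := Scheme.IdealSheafData.vanishingIdeal (⟨Z, hZc⟩ : Closeds X)
  obtain ⟨N, hN, hcd⟩ := exists_pow_le_cond h W ⟨Z, hZc⟩ fun x hx => not_not.mp hx
  let J := I ^ N
  let i := J.subschemeι
  have hrange : Set.range i = Z := by
    rw [Scheme.IdealSheafData.range_subschemeι, Scheme.IdealSheafData.support_pow _ _ hN.ne']
    exact Scheme.IdealSheafData.coe_support_vanishingIdeal _
  have : IsProper (i ≫ f) := (ZarCoh.ProperOver.isProper_comp_iff f i hrange).2 hZ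
  have hcond : ∀ U : X.Opens, IsAffineOpen U →
      ∀ s ∈ (RingHom.ker (i.app U).hom).map (h.app U).hom, ∃ a, h.app U a = s := by
    intro U hU s hs
    rw [← Scheme.Hom.ker_apply i ⟨U, hU⟩, Scheme.IdealSheafData.ker_subschemeι] at hs
    refine cond_global h J (fun U' x hx => ?_) ⟨U, hU⟩ s hs
    obtain ⟨U'', hx'', hle⟩ := hcd U' x hx
    exact ⟨U'', hx'', by rw [Scheme.IdealSheafData.ideal_pow]; exact hle⟩
  -- ampleness on the thickened subset
  let qq := pullback.snd h i
  let pr := pullback.fst h i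
  have : IsFinite qq := MorphismProperty.pullback_snd _ _ inferInstance
  have : Surjective qq := MorphismProperty.pullback_snd _ _ inferInstance
  have : IsProper (qq ≫ i ≫ f) := inferInstance
  have hAV : CohB1.IsAmple ((Scheme.Modules.pullback i).obj L) :=
    (Groth.Agent.S0052.result A (i ≫ f) (qq ≫ i ≫ f) qq rfl _ (PicLoc.isInvertible_pullback i hL)).2
      (isAmple_pb_of_sq pullback.condition hA1)
  obtain ⟨c, ⟨F⟩⟩ := exists_frames hL
  exact (F.isAmple_iff hL).2 (Coc.amp_descend f h (fun U _ => app_injective h U) i hcond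
    ((F.isAmple_pullback_iff hL h).1 hA1) ((F.isAmple_pullback_iff hL i).1 hAV))

/-- The case of an affine base. -/
theorem isAmple_of_pullback {A : Type u} [CommRing A] [IsNoetherianRing A]
    (f : X ⟶ Spec (CommRingCat.of A)) [LocallyOfFiniteType f] [QuasiCompact f]
    (g : X' ⟶ X) [IsFinite g] [Surjective g] {L : X.Modules} (hL : PicF.IsInvertible L)
    {Z : Set X} (hZ : ClSub.IsProperOver f Z) (hreg : ∀ x, x ∉ Z → Reg g x)
    (hA : CohB1.IsAmple ((Scheme.Modules.pullback g).obj L)) : CohB1.IsAmple L := by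
  let j := (Scheme.IdealSheafData.vanishingIdeal (⊤ : Closeds X)).subschemeι
  let Xr := (Scheme.IdealSheafData.vanishingIdeal (⊤ : Closeds X)).subscheme
  have : IsReduced Xr := H54.ChevNoeth.isReduced_subscheme ⊤
  have : Surjective j := ⟨Set.range_eq_univ.mp (H54.ChevNoeth.range_subschemeι_vanishing ⊤)⟩
  let g' := pullback.snd g j
  have : IsFinite g' := MorphismProperty.pullback_snd _ _ inferInstance
  have : Surjective g' := MorphismProperty.pullback_snd _ _ inferInstance
  have hA' := isAmple_pb_of_sq (pullback.condition (f := g) (g := j)) hA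
  obtain ⟨hZc, -⟩ := id hZ
  let Zr : Closeds Xr := ⟨j ⁻¹' Z, hZc.preimage j.continuous⟩
  let i' := (Scheme.IdealSheafData.vanishingIdeal Zr).subschemeι
  have hr' : Set.range i' = j ⁻¹' Z := H54.ChevNoeth.range_subschemeι_vanishing Zr
  have hZr : ClSub.IsProperOver (j ≫ f) (j ⁻¹' Z) := by
    refine (ZarCoh.ProperOver.isProper_comp_iff (j ≫ f) i' hr').1 ?_
    rw [← Category.assoc]
    refine (ZarCoh.ProperOver.isProper_comp_iff f (i' ≫ j) ?_).2 hZ
    rw [Scheme.Hom.comp_base, TopCat.coe_comp, Set.range_comp, hr',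
      Set.image_preimage_eq _ j.surjective]
  have hr : CohB1.IsAmple ((Scheme.Modules.pullback j).obj L) :=
    isAmple_of_reduced (j ≫ f) g' (PicLoc.isInvertible_pullback j hL) hZr
      (fun p hp => reg_of_isPullback (IsPullback.of_hasPullback g j)
        (fun hd => isIso_stalkMap_of_isDomain j p) (hreg _ hp)) hA'
  exact AmpleThick.Basic.isAmple_of_pullback j
    (isHomeomorph_iff_isEmbedding_surjective.2 ⟨j.isEmbedding, j.surjective⟩) hL hr

/-- Relative ampleness descends along a finite surjection which is, outside a closed subset proper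
over the base, flat or onto a normal point. -/
theorem isRelAmple_iff {Y : Scheme.{u}} [IsLocallyNoetherian Y] (f : X ⟶ Y) [LocallyOfFiniteType f]
    [QuasiCompact f] (g : X' ⟶ X) [IsFinite g] [Surjective g] {L : X.Modules}
    (hL : PicF.IsInvertible L) {Z : Set X} (hZ : ClSub.IsProperOver f Z)
    (hreg : ∀ x, x ∉ Z → Reg g x) :
    RelAmple.IsRelAmple f L ↔ RelAmple.IsRelAmple (g ≫ f) ((Scheme.Modules.pullback g).obj L) := by
  refine ⟨Ample.RelAmple.isRelAmple_pullback f g (Ample.Pullback.isQuasiAffine_of_isAffineHom g),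
    fun h => (Ample.RelAmple.isRelAmple_iff f).2 ⟨inferInstance, fun U hU => ?_⟩⟩
  have h1 := ((Ample.RelAmple.isRelAmple_iff (g ≫ f)).1 h).2 U hU
  let O := f ⁻¹ᵁ U
  have : IsNoetherianRing Γ(Y, U) := IsLocallyNoetherian.component_noetherian ⟨U, hU⟩
  have : IsAffine (U : Scheme.{u}) := hU
  let f0 : (O : Scheme.{u}) ⟶ Spec (CommRingCat.of Γ(Y, U)) := (f ∣_ U) ≫ hU.isoSpec.hom
  have : LocallyOfFiniteType (f ∣_ U) := IsZariskiLocalAtTarget.restrict ‹LocallyOfFiniteType f› U
  have : QuasiCompact (f ∣_ U) := IsZariskiLocalAtTarget.restrict ‹QuasiCompact f› U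
  have : IsFinite (g ∣_ O) := IsZariskiLocalAtTarget.restrict ‹IsFinite g› O
  have : Surjective (g ∣_ O) := IsZariskiLocalAtTarget.restrict ‹Surjective g› O
  have hsq : IsPullback (g ⁻¹ᵁ O).ι (g ∣_ O) g O.ι := (isPullback_morphismRestrict g O).flip
  obtain ⟨hZc, hZp⟩ := hZ
  let iZ := (Scheme.IdealSheafData.vanishingIdeal (⟨Z, hZc⟩ : Closeds X)).subschemeι
  let i0 := pullback.fst O.ι iZ
  have hr0 : Set.range i0 = O.ι ⁻¹' Z := by
    rw [Scheme.Pullback.range_fst, H54.ChevNoeth.range_subschemeι_vanishing]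
    rfl
  have hp0 : IsProper (i0 ≫ (f ∣_ U)) := by
    have H : IsPullback (pullback.snd O.ι iZ) (i0 ≫ (f ∣_ U)) (iZ ≫ f) U.ι :=
      (IsPullback.of_hasPullback O.ι iZ).flip.paste_vert (isPullback_morphismRestrict f U).flip
    exact MorphismProperty.of_isPullback H hZp
  have hZ0 : ClSub.IsProperOver f0 (O.ι ⁻¹' Z) := by
    refine (ZarCoh.ProperOver.isProper_comp_iff f0 i0 hr0).1 ?_
    rw [← Category.assoc]
    infer_instance
  refine isAmple_of_pullback f0 (g ∣_ O) (PicLoc.isInvertible_pullback O.ι hL) hZ0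
    (fun p hp => reg_of_isPullback hsq (fun _ => inferInstance) (hreg _ hp)) ?_
  exact Ample.Pow.isAmple_of_iso
    ((Scheme.Modules.pullbackComp (g ⁻¹ᵁ O).ι g).app L ≪≫
      (Scheme.Modules.pullbackCongr hsq.w).app L ≪≫
      ((Scheme.Modules.pullbackComp (g ∣_ O) O.ι).app L).symm) h1

end Groth.Agent.H46.AmpDesc.Main
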