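import Groth.Agent.H46.AmpDesc.Ext
import Mathlib.AlgebraicGeometry.Morphisms.Proper
import Mathlib.RingTheory.MvPolynomial.Basic
import Mathlib.Algebra.MvPolynomial.Monad
import Mathlib.RingTheory.Spectrum.Prime.RingHom

/-!
# Integral relations between sections on a proper scheme
-/

set_option autoImplicit false

universe u

open CategoryTheory CategoryTheory.Limits AlgebraicGeometry Opposite TopologicalSpace

namespace Groth.Agent.H46.AmpDesc

variable {C : Scheme.{u}} {A : Type u} [CommRing A]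

/-- Global functions coming from the base. -/
noncomputable def scal (f : C ⟶ Spec (CommRingCat.of A)) : A →+* Γ(C, ⊤) :=
  ((Scheme.ΓSpecIso (CommRingCat.of A)).inv ≫ f.appTop).hom

theorem appLE_congr_hom {X Y : Scheme.{u}} {g g' : X ⟶ Y} (e : g = g') (U : Y.Opens) (V : X.Opens)
    (h : V ≤ g ⁻¹ᵁ U) (h' : V ≤ g' ⁻¹ᵁ U) : g.appLE U V h = g'.appLE U V h' := by
  subst e; rfl

variable (c : Coc C) (f : C ⟶ Spec (CommRingCat.of A)) {r : ℕ}

/-- The monomial. -/
def mon (t : Fin r → c.Fam) (α : Fin r → ℕ) : c.Fam := ∏ ν, t ν ^ α ν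

theorem mon_add (t : Fin r → c.Fam) (α β : Fin r → ℕ) :
    mon c t (α + β) = mon c t α * mon c t β := by
  simp only [mon, Pi.add_apply, pow_add, Finset.prod_mul_distrib]

theorem mon_single (t : Fin r → c.Fam) (ν : Fin r) (e : ℕ) :
    mon c t (Pi.single ν e) = t ν ^ e := by
  rw [mon, Finset.prod_eq_single ν (fun μ _ h => by rw [Pi.single_eq_of_ne h, pow_zero])
    (fun h => absurd (Finset.mem_univ ν) h), Pi.single_eq_same]

theorem isSec_mon {t : Fin r → c.Fam} (ht : ∀ ν, c.IsSec 1 (t ν)) (α : Fin r → ℕ) :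
    c.IsSec (∑ ν, α ν) (mon c t α) := by
  have h := Coc.IsSec.prod Finset.univ (fun ν => t ν ^ α ν) (fun ν => 1 * α ν) fun ν _ => (ht ν).pow (α ν)
  simpa only [one_mul, mon] using h

/-- The terms `κ(r) t^α u^j` of degree `n` with `|α| ≥ E` and `j < N`. -/
def Terms (t : Fin r → c.Fam) (u : c.Fam) (n E N : ℕ) : Set c.Fam :=
  {F | ∃ (s : A) (α : Fin r → ℕ) (j : ℕ), (∑ ν, α ν) + j = n ∧ E ≤ ∑ ν, α ν ∧ j < N ∧
    F = c.const (scal f s) * mon c t α * u ^ j}

set_option maxHeartbeats 1600000 in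
/-- On a proper scheme a section is integral over sections without common zero. -/
theorem exists_relation [IsProper f] {t : Fin r → c.Fam} (ht : ∀ ν, c.IsSec 1 (t ν)) {u : c.Fam}
    (hu : c.IsSec 1 u) (hcov : ∀ x : C, ∃ ν, x ∈ c.locus (t ν)) :
    ∃ N, u ^ N ∈ AddSubmonoid.closure (Terms c f t u N 1 N) := by
  classical
  let Ax := MvPolynomial (Fin r) A
  let sbas : Spec (CommRingCat.of Ax) ⟶ Spec (CommRingCat.of A) :=
    Spec.map (CommRingCat.ofHom MvPolynomial.C)
  let P := pullback f sbas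
  let pr : P ⟶ C := pullback.fst f sbas
  let π : P ⟶ Spec (CommRingCat.of Ax) := pullback.snd f sbas
  let xP : Fin r → Γ(P, ⊤) := fun ν =>
    π.appTop ((Scheme.ΓSpecIso (CommRingCat.of Ax)).inv (MvPolynomial.X ν))
  let F : ∀ i, Fin r → Γ(P, pr ⁻¹ᵁ c.U i) := fun i ν =>
    pr.app (c.U i) (t ν i) - res (le_top : pr ⁻¹ᵁ c.U i ≤ ⊤) (xP ν) * pr.app (c.U i) (u i)
  let G : Set P := (⋃ i, ⋃ ν, (P.basicOpen (F i ν) : Set P))ᶜ
  have hG : IsClosed G := (isOpen_iUnion fun i => isOpen_iUnion fun ν => (P.basicOpen (F i ν)).2).isClosed_compl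
  have hπG : IsClosed (π '' G) := π.isClosedMap _ hG
  -- no point of `G` over the zero section
  have hzero : ∀ p ∈ G, ∃ ν, (MvPolynomial.X ν : Ax) ∉ (π p : PrimeSpectrum Ax).asIdeal := by
    intro p hp
    by_contra hc
    push Not at hc
    obtain ⟨ν, hν⟩ := hcov (pr p)
    obtain ⟨i, hi⟩ := c.exists_mem_U (pr p)
    rw [(ht ν).mem_locus_iff hi] at hν
    have h1 : p ∈ P.basicOpen (pr.app (c.U i) (t ν i)) := by
      rw [← Scheme.preimage_basicOpen]; exact hν
    rw [show pr.app (c.U i) (t ν i) = F i ν +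
      res (le_top : pr ⁻¹ᵁ c.U i ≤ ⊤) (xP ν) * pr.app (c.U i) (u i) by simp [F]] at h1
    rcases P.basicOpen_add_le _ _ h1 with h2 | h2
    · exact hp (Set.mem_iUnion₂.mpr ⟨i, ν, h2⟩)
    · rw [SetLike.mem_coe, Scheme.basicOpen_mul, Scheme.basicOpen_res] at h2
      have h3 : p ∈ P.basicOpen (xP ν) := h2.1.2
      rw [show P.basicOpen (xP ν) = π ⁻¹ᵁ (Spec (CommRingCat.of Ax)).basicOpen
        ((Scheme.ΓSpecIso (CommRingCat.of Ax)).inv (MvPolynomial.X ν)) from
          (Scheme.preimage_basicOpen π _).symm, basicOpen_eq_of_affine] at h3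
      exact h3 (hc ν)
  -- the quotients on the locus of `u`
  let D : Fin c.m → C.Opens := fun i => C.basicOpen (u i)
  let q : ∀ i, Fin r → Γ(C, D i) := fun i ν =>
    res (C.basicOpen_le (u i)) (t ν i) * ↑(isUnit_res_basicOpen (u i)).unit⁻¹
  have hq : ∀ i ν, q i ν * res (C.basicOpen_le _) (u i) = res (C.basicOpen_le (u i)) (t ν i) :=
    fun i ν => by simp only [q]; rw [mul_assoc, IsUnit.val_inv_mul, mul_one]
  let κ : ∀ i, A →+* Γ(C, D i) := fun i => (res (le_top : D i ≤ ⊤)).comp (scal f)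
  let φ : ∀ i, Ax →+* Γ(C, D i) := fun i => MvPolynomial.eval₂Hom (κ i) (q i)
  let Ψ : Ax →+* Π i, Γ(C, D i) := RingHom.pi φ
  have hrange : Set.range (PrimeSpectrum.comap Ψ) ⊆ π '' G := by
    rintro _ ⟨w, rfl⟩
    obtain ⟨i, Q, rfl⟩ := PrimeSpectrum.exists_comap_evalRingHom_eq (R := fun i => Γ(C, D i)) w
    have hD : IsAffineOpen (D i) := (c.aff i).basicOpen (u i)
    have hcomp : hD.fromSpec ≫ f =
        Spec.map (CommRingCat.ofHom (φ i)) ≫ sbas := by
      rw [← Spec.map_comp, ← CommRingCat.ofHom_comp,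
        show (φ i).comp MvPolynomial.C = κ i from MvPolynomial.eval₂Hom_comp_C _ _]
      have h := IsAffineOpen.SpecMap_appLE_fromSpec f (isAffineOpen_top _) hD
        (le_top : D i ≤ f ⁻¹ᵁ ⊤)
      rw [← h]
      have h2 : (isAffineOpen_top (Spec (CommRingCat.of A))).fromSpec =
          Spec.map (Scheme.ΓSpecIso (CommRingCat.of A)).inv := by
        rw [IsAffineOpen.fromSpec_top, Scheme.isoSpec_Spec_inv]
      rw [h2, ← Spec.map_comp]
      congr 1
    let γ : Spec Γ(C, D i) ⟶ P := pullback.lift hD.fromSpec (Spec.map (CommRingCat.ofHom (φ i))) hcomp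
    refine ⟨γ Q, fun hmem => ?_, ?_⟩
    · obtain ⟨j, ν, hjν⟩ := Set.mem_iUnion₂.mp hmem
      have h1 : (Q : Spec Γ(C, D i)) ∈ γ ⁻¹ᵁ P.basicOpen (F j ν) := hjν
      rw [Scheme.preimage_basicOpen] at h1
      suffices h0 : γ.app (pr ⁻¹ᵁ c.U j) (F j ν) = 0 by
        rw [h0, Scheme.basicOpen_zero] at h1
        exact h1
      set W := γ ⁻¹ᵁ pr ⁻¹ᵁ c.U j with hW
      have hfst : γ ≫ pr = hD.fromSpec := pullback.lift_fst _ _ _
      have hsnd : γ ≫ π = Spec.map (CommRingCat.ofHom (φ i)) := pullback.lift_snd _ _ _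
      have hWle : W ≤ hD.fromSpec ⁻¹ᵁ (D i ⊓ c.U j) := fun z hz =>
        ⟨hD.range_fromSpec.le ⟨z, rfl⟩, by
          have h : (γ ≫ pr) z ∈ c.U j := hz
          rwa [hfst] at h⟩
      let Φ := (hD.fromSpec.appLE (D i ⊓ c.U j) W hWle).hom
      have key1 : ∀ a : Γ(C, c.U j), γ.app (pr ⁻¹ᵁ c.U j) (pr.app (c.U j) a) =
          Φ (res inf_le_right a) := by
        intro a
        have e1 : (γ ≫ pr).appLE (c.U j) W le_rfl a = γ.app (pr ⁻¹ᵁ c.U j) (pr.app (c.U j) a) := by
          rw [Scheme.Hom.comp_appLE, Scheme.Hom.appLE_eq_app]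
          rfl
        rw [← e1]
        show _ = (C.presheaf.map _ ≫ hD.fromSpec.appLE _ W hWle) a
        rw [Scheme.Hom.map_appLE]
        exact congr($(appLE_congr_hom hfst (c.U j) W le_rfl _).hom a)
      have key2 : γ.app (pr ⁻¹ᵁ c.U j) (res (le_top : pr ⁻¹ᵁ c.U j ≤ ⊤) (xP ν)) =
          Φ (res inf_le_left (q i ν)) := by
        rw [app_res]
        have e1 : γ.app ⊤ (xP ν) = (Scheme.ΓSpecIso Γ(C, D i)).inv (q i ν) := by
          have e2 : (γ ≫ π).appTop ((Scheme.ΓSpecIso (CommRingCat.of Ax)).inv (MvPolynomial.X ν)) =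
              γ.app ⊤ (xP ν) := rfl
          rw [← e2, hsnd]
          have e3 := congr($(Scheme.ΓSpecIso_inv_naturality (CommRingCat.ofHom (φ i))).hom
            (MvPolynomial.X ν))
          refine e3.symm.trans ?_
          show (Scheme.ΓSpecIso Γ(C, D i)).inv (φ i (MvPolynomial.X ν)) = _
          rw [MvPolynomial.eval₂Hom_X']
        erw [e1]
        show _ = (C.presheaf.map _ ≫ hD.fromSpec.appLE _ W hWle) _
        rw [Scheme.Hom.map_appLE, Scheme.Hom.appLE, hD.fromSpec_app_self]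
        simp only [Category.assoc, CommRingCat.comp_apply]
        exact (res_res _ _ _).symm
      simp only [F, map_sub, map_mul]
      rw [key1, key1]
      erw [key2]
      rw [← map_mul, ← map_sub]
      refine (congrArg Φ ?_).trans (map_zero Φ)
      rw [sub_eq_zero]
      have hu' : IsUnit (res (inf_le_left : D i ⊓ c.U j ≤ D i) (res (C.basicOpen_le _) (u i))) :=
        (isUnit_res_basicOpen (u i)).map _
      refine hu'.mul_left_injective ?_
      have hle : D i ⊓ c.U j ≤ c.U i ⊓ c.U j := inf_le_inf_right _ (C.basicOpen_le _)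
      have h2 := congrArg (res hle) (ht ν i j)
      have h3 := congrArg (res hle) (hu i j)
      have h4 := congrArg (res (inf_le_left : D i ⊓ c.U j ≤ D i)) (hq i ν)
      simp only [map_mul, res_res, pow_one] at h2 h3 h4
      dsimp only
      rw [mul_right_comm, res_res, h4, h2, h3]
      ring
    · have : (γ ≫ π) Q = PrimeSpectrum.comap (φ i) Q := by
        rw [show γ ≫ π = Spec.map (CommRingCat.ofHom (φ i)) from pullback.lift_snd _ _ _]
        rfl
      refine (show π (γ Q) = _ from this).trans ?_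
      rfl
  have hker : PrimeSpectrum.zeroLocus (RingHom.ker Ψ : Set Ax) ⊆ π '' G := by
    rw [← PrimeSpectrum.closure_range_comap]
    exact closure_minimal hrange hπG
  have htop : RingHom.ker Ψ ⊔ Ideal.span (Set.range (MvPolynomial.X : Fin r → Ax)) = ⊤ := by
    by_contra hne
    obtain ⟨m, hm, hle⟩ := Ideal.exists_le_maximal _ hne
    obtain ⟨p, hp, hpm⟩ := hker (show (⟨m, hm.isPrime⟩ : PrimeSpectrum Ax) ∈ _ from
      (PrimeSpectrum.mem_zeroLocus _ _).mpr fun z hz => le_sup_left.trans hle hz)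
    obtain ⟨ν, hν⟩ := hzero p hp
    rw [hpm] at hν
    exact hν (hle (Ideal.mem_sup_right (Ideal.subset_span ⟨ν, rfl⟩)))
  obtain ⟨k0, hk0, P0, hP0, hsum⟩ := Submodule.mem_sup.mp (htop.ge (trivial : (1 : Ax) ∈ _))
  have hP1 : ∀ i, φ i P0 = 1 := fun i => by
    have h1 := congrArg (φ i) hsum
    rw [map_add, map_one, show φ i k0 = 0 from congrFun hk0 i, zero_add] at h1
    exact h1
  have hP0c : ∀ α ∈ P0.support, α ≠ 0 := by
    intro α hα h0
    subst h0
    rw [MvPolynomial.mem_support_iff] at hα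
    refine hα ?_
    have hle : Ideal.span (Set.range (MvPolynomial.X : Fin r → Ax)) ≤
        RingHom.ker (MvPolynomial.constantCoeff : Ax →+* A) :=
      Ideal.span_le.mpr (by rintro _ ⟨ν, rfl⟩; simp)
    exact hle hP0
  let M := P0.totalDegree
  let R := ∑ α ∈ P0.support,
    c.const (scal f (P0.coeff α)) * mon c t ⇑α * u ^ (M - ∑ ν, α ν)
  have hdeg : ∀ α ∈ P0.support, ∑ ν, α ν ≤ M := fun α hα => by
    refine le_trans (le_of_eq ?_) (MvPolynomial.le_totalDegree hα)
    rw [Finsupp.sum_fintype _ _ (fun _ => rfl)]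
  have hloc : ∀ i, res (C.basicOpen_le (u i)) ((u ^ M) i) = res (C.basicOpen_le (u i)) (R i) := by
    intro i
    have h1 := hP1 i
    rw [MvPolynomial.coe_eval₂Hom, MvPolynomial.eval₂_eq'] at h1
    rw [Pi.pow_apply, map_pow, ← one_mul (res _ (u i) ^ M), ← h1, Finset.sum_mul]
    simp only [R, Finset.sum_apply, map_sum, Pi.mul_apply, Pi.pow_apply, map_mul, map_pow, mon,
      Finset.prod_apply, map_prod, ← hq]
    refine Finset.sum_congr rfl fun α hα => ?_
    simp only [mul_pow, Finset.prod_mul_distrib, Finset.prod_pow_eq_pow_sum, Coc.const,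
      RingHom.pi_apply, res_res, κ, RingHom.comp_apply]
    conv_lhs => rw [← Nat.add_sub_cancel' (hdeg α hα), pow_add]
    ring
  obtain ⟨e, he⟩ := Coc.exists_pow_eq u (u ^ M) R hloc
  refine ⟨e + M, ?_⟩
  rw [pow_add, he e le_rfl, Finset.mul_sum]
  refine sum_mem fun α hα => AddSubmonoid.subset_closure ?_
  have h1 : 1 ≤ ∑ ν, α ν := by
    by_contra h
    refine hP0c α hα (Finsupp.ext fun ν => ?_)
    have := Finset.single_le_sum (f := fun ν => α ν) (fun _ _ => Nat.zero_le _) (Finset.mem_univ ν)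
    simp only [Finsupp.coe_zero, Pi.zero_apply]
    omega
  refine ⟨P0.coeff α, ⇑α, e + (M - ∑ ν, α ν), by have := hdeg α hα; omega, h1,
    by have := hdeg α hα; omega, ?_⟩
  rw [pow_add]
  ring

end Groth.Agent.H46.AmpDesc
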